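/-
Gradings of the adjoint module by additive weights, and the coordinates they give on the height filtration.
-/
import Cfsg.Agent.Lib.Chev.Unipotent
import Cfsg.Agent.Lib.Chev.RootSets
import Cfsg.Agent.Lib.Chev.FieldAut
import Cfsg.Agent.Lib.Chev.Aut.ParabolicFitting

set_option autoImplicit false
set_option linter.unusedSectionVars false

namespace Cfsg.Agent.Chev

open Cfsg.Lie

namespace BGL

/-- An additive weight on roots. -/
def rw' (P : Pk) (f : ℕ → ℤ) (r : ℕ) : ℤ := ∑ i ∈ Finset.range P.rank, f i * P.rv r i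

/-- The weight of a coordinate. -/
def cw {D : ChevalleyDatum} (P : Pk) (f : ℕ → ℤ) (x : D.Idx) : ℤ :=
  if code P x < P.nroots then rw' P f (code P x) else 0

/-- Off the diagonal the weight grows at least by `m`. -/
def Grades {D : ChevalleyDatum} {R : Type*} [Zero R] (P : Pk) (f : ℕ → ℤ) (m : ℤ)
    (M : Matrix D.Idx D.Idx R) : Prop :=
  ∀ row col, row ≠ col → M row col ≠ 0 → cw P f col + m ≤ cw P f row

variable {D : ChevalleyDatum} {P : Pk} {F : Type*} [Field F] (h : Ok D P)
include h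

theorem rw_ng (f : ℕ → ℤ) {r : ℕ} (hr : r < P.nroots) : rw' P f (P.ng r) = -rw' P f r := by
  rw [rw', rw', ← Finset.sum_neg_distrib]
  refine Finset.sum_congr rfl fun i hi => ?_
  rw [h.rv_ng hr (Finset.mem_range.1 hi)]
  ring

theorem rw_tgt (f : ℕ → ℤ) {r s k : ℕ} (hr : r < P.nroots) (hs : s < P.nroots) (hk : k < P.len r s) :
    rw' P f (P.tgt r s k) = (k + 1) * rw' P f r + rw' P f s := by
  rw [rw', rw', rw', Finset.mul_sum, ← Finset.sum_add_distrib]
  refine Finset.sum_congr rfl fun i hi => ?_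
  rw [h.rv_additive hr hs hk (Finset.mem_range.1 hi)]
  ring

theorem rw_one {r : ℕ} : rw' P (fun _ => 1) r = P.ht r := by
  have hset : (List.range P.rank).toFinset = Finset.range P.rank := by ext; simp
  rw [rw', Pk.ht, ← List.sum_toFinset _ List.nodup_range, hset]
  simp

/-- A root element moves the weight by positive multiples of its own. -/
theorem X_weight (f : ℕ → ℤ) {r : ℕ} (hr : r < P.nroots) (t : F) {row col : D.Idx} (hne : row ≠ col)
    (hX : X D P r t row col ≠ 0) :
    ∃ k : ℕ, 0 < k ∧ cw P f row = cw P f col + k * rw' P f r := by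
  obtain ⟨k, hk, hc⟩ := (h.X_entry hr t row col).2 hne hX
  rcases h.colL_entry hk hr hc with ⟨h1, h2⟩ | ⟨h1, h2⟩ | ⟨h1, -, -, h4, h5⟩
  · refine ⟨1, one_pos, ?_⟩
    rw [cw, cw, if_pos (h2 ▸ hr), if_neg (by omega), h2]
    simp
  · rcases h2 with h2 | h2
    · refine ⟨1, one_pos, ?_⟩
      rw [cw, cw, if_neg (by omega), if_pos (h1 ▸ Ok.ng_lt hr), h1, rw_ng h f hr]
      simp
    · refine ⟨2, two_pos, ?_⟩
      rw [cw, cw, if_pos (h2 ▸ hr), if_pos (h1 ▸ Ok.ng_lt hr), h1, h2, rw_ng h f hr]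
      push_cast
      ring
  · refine ⟨k, by omega, ?_⟩
    rw [cw, cw, if_pos (h5 ▸ h.tgt_lt hr h1 h4), if_pos h1, h5, rw_tgt h f hr h1 h4]
    have e : ((k - 1 : ℕ) : ℤ) + 1 = k := by omega
    rw [e]
    ring

theorem grades_one (f : ℕ → ℤ) (m : ℤ) : Grades P f m (1 : Matrix D.Idx D.Idx F) := fun row col e hne =>
  absurd (Matrix.one_apply_ne e) hne

theorem grades_mul {f : ℕ → ℤ} {m : ℤ} (hm : 0 ≤ m) {M N : Matrix D.Idx D.Idx F} (hM : Grades P f m M)
    (hN : Grades P f m N) : Grades P f m (M * N) := by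
  intro row col e hne
  rw [Matrix.mul_apply] at hne
  obtain ⟨x, -, hx⟩ := Finset.exists_ne_zero_of_sum_ne_zero hne
  have h1 : M row x ≠ 0 := fun e' => hx (by rw [e', zero_mul])
  have h2 : N x col ≠ 0 := fun e' => hx (by rw [e', mul_zero])
  rcases eq_or_ne row x with rfl | e1
  · exact hN _ _ e h2
  · have := hM _ _ e1 h1
    rcases eq_or_ne x col with rfl | e2
    · exact this
    · have := hN _ _ e2 h2
      omega

theorem grades_xG (f : ℕ → ℤ) {r : ℕ} (hr : r < P.nroots) (t : F) {m : ℤ} (hm : m ≤ rw' P f r)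
    (hr0 : 0 ≤ rw' P f r) : Grades P f m ((h.xG r t : GL D.Idx F) : Matrix D.Idx D.Idx F) := by
  intro row col e hne
  rw [h.coe_xG' hr] at hne
  obtain ⟨k, hk, e'⟩ := X_weight h f hr t e hne
  nlinarith

theorem grades_genR (f : ℕ → ℤ) {m : ℤ} (hm : 0 ≤ m) {S : ℕ → Prop}
    (hS : ∀ r, S r → r < P.nroots ∧ m ≤ rw' P f r) {g : GL D.Idx F} (hg : g ∈ h.genR S) :
    Grades P f m (g : Matrix D.Idx D.Idx F) := by
  induction hg using Subgroup.closure_induction'' with
  | one => simpa using grades_one h f m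
  | mem x hx =>
    obtain ⟨r, t, hr, rfl⟩ := hx
    exact grades_xG h f (hS r hr).1 t (hS r hr).2 (hm.trans (hS r hr).2)
  | inv_mem x hx =>
    obtain ⟨r, t, hr, rfl⟩ := hx
    rw [h.xG_inv]
    exact grades_xG h f (hS r hr).1 _ (hS r hr).2 (hm.trans (hS r hr).2)
  | mul a b _ _ iha ihb => rw [Units.val_mul]; exact grades_mul h hm iha ihb

theorem grades_uFil {M : ℤ} (hM : 0 ≤ M) {g : GL D.Idx F} (hg : g ∈ h.uFil (F := F) M) :
    Grades P (fun _ => 1) M (g : Matrix D.Idx D.Idx F) :=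
  grades_genR h _ hM (fun r hr => ⟨(P.isPos_iff.1 hr.1).2, by rw [rw_one h]; exact hr.2⟩) hg

/-- An element grading both ways is the identity, once its diagonal is. -/
theorem eq_one_of_grades {f : ℕ → ℤ} {M : Matrix D.Idx D.Idx F} (hd : ∀ x, M x x = 1)
    (h0 : Grades P f 0 M) (h1 : Grades P (fun i => -f i) 1 M) : M = 1 := by
  ext row col
  rcases eq_or_ne row col with rfl | e
  · rw [hd, Matrix.one_apply_eq]
  · rw [Matrix.one_apply_ne e]
    by_contra hne
    have a := h0 _ _ e hne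
    have b := h1 _ _ e hne
    have hneg : ∀ x : D.Idx, cw P (fun i => -f i) x = -cw P f x := fun x => by
      unfold cw rw'
      split_ifs <;> simp [Finset.sum_neg_distrib]
    rw [hneg, hneg] at b
    omega

omit h in
/-- The coordinate at the root `b`. -/
noncomputable def cidx (h : Ok D P) (b : ℕ) (hb : b < P.nroots) : ℕ :=
  (h.co_cast_ne (F := F) hb).choose

omit h in
/-- The coordinate of the height filtration at the root `b`. -/
noncomputable def tval (h : Ok D P) (b : ℕ) (g : GL D.Idx F) : F :=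
  if hb : b < P.nroots then
    (g : Matrix D.Idx D.Idx F)
      (h.hIdx _ (h.co_cast_ne (F := F) hb).choose_spec.1) (h.rootIdx (P.ng b) (Ok.ng_lt hb)) /
        (P.co b (cidx (F := F) h b hb) : F)
  else 0

theorem tval_one (b : ℕ) : tval h b (1 : GL D.Idx F) = 0 := by
  unfold tval
  split_ifs with hb
  · rw [Units.val_one, Matrix.one_apply_ne, zero_div]
    intro e
    exact Sum.inl_ne_inr e
  · rfl

theorem tval_mul {b : ℕ} (hb : P.isPos b = true) {M : ℤ} (hM : P.ht b ≤ M) {g v : GL D.Idx F}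
    (hg : g ∈ h.uFil (F := F) M) (hv : v ∈ h.uFil (F := F) M) :
    tval h b (g * v) = tval h b g + tval h b v := by
  have hbn := (P.isPos_iff.1 hb).2
  have hbp := h.ht_pos hb
  have hgg := grades_uFil h (by omega) hg
  have hgv := grades_uFil h (by omega) hv
  have htg := h.tri_of_pos (h.uFil_le_pos M hg)
  have htv := h.tri_of_pos (h.uFil_le_pos M hv)
  simp only [tval, dif_pos hbn, Units.val_mul]
  rw [← add_div]
  congr 1
  set row := h.hIdx _ (h.co_cast_ne (F := F) hbn).choose_spec.1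
  set col := h.rootIdx (P.ng b) (Ok.ng_lt hbn)
  have hrc : row ≠ col := fun e => Sum.inl_ne_inr e
  rw [Matrix.mul_apply, Finset.sum_eq_add row col hrc]
  · rw [(htg row row).1 rfl, (htv col col).1 rfl, one_mul, mul_one, add_comm]
  · intro x _ hx
    by_contra hne
    have a := hgg row x (Ne.symm hx.1) fun e => hne (by rw [e, zero_mul])
    have c := hgv x col hx.2 fun e => hne (by rw [e, mul_zero])
    have hr0 : cw P (fun _ => 1) row = 0 := if_neg (by
      show ¬ P.nroots + _ < P.nroots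
      omega)
    have hc0 : cw P (fun _ => 1) col = -P.ht b := by
      rw [cw, if_pos (show code P col < P.nroots from Ok.ng_lt hbn), show code P col = P.ng b from rfl,
        rw_ng h _ hbn, rw_one h]
    omega
  · simp
  · simp

theorem tval_xG {b r : ℕ} (hb : P.isPos b = true) (hr : P.isPos r = true) (hle : P.ht b ≤ P.ht r) (t : F) :
    tval h b (h.xG r t) = if r = b then t else 0 := by
  have hbn := (P.isPos_iff.1 hb).2
  have hrn := (P.isPos_iff.1 hr).2
  simp only [tval, dif_pos hbn]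
  split_ifs with e
  · subst e
    rw [h.coe_xG' hrn, h.X_coroot hrn]
    exact mul_div_cancel_right₀ t (h.co_cast_ne (F := F) hbn).choose_spec.2
  · rw [div_eq_zero_iff]
    left
    by_contra hne
    rw [h.coe_xG' hrn] at hne
    obtain ⟨k, hk, hc⟩ := (h.X_entry hrn t _ _).2 (fun e' => Sum.inl_ne_inr e') hne
    have hcol : code P (h.rootIdx (P.ng b) (Ok.ng_lt hbn)) = P.ng b := rfl
    have hrow : P.nroots ≤ code P (h.hIdx _ (h.co_cast_ne (F := F) hbn).choose_spec.1) := Nat.le_add_right _ _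
    rcases h.colL_entry hk hrn hc with ⟨h1, -⟩ | ⟨h1, -⟩ | ⟨h1, -, -, h4, h5⟩
    · have h1' : P.nroots ≤ P.ng b := h1
      have := Ok.ng_lt (P := P) hbn
      omega
    · have h1' : P.ng b = P.ng r := h1
      exact e (by rw [← Ok.ng_ng hrn, ← h1', Ok.ng_ng hbn])
    · have h5' : P.nroots + _ = P.tgt r (P.ng b) (k - 1) := h5
      have h4' : k - 1 < P.len r (P.ng b) := h4
      have := h.tgt_lt hrn (Ok.ng_lt hbn) h4'
      omega

theorem mem_uFil_xG {r : ℕ} (hr : P.isPos r = true) {M : ℤ} (hM : M ≤ P.ht r) (t : F) :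
    h.xG r t ∈ h.uFil (F := F) M := h.xG_mem_genR ⟨hr, hM⟩ t

theorem uFil_mono {m M : ℤ} (hmM : m ≤ M) : h.uFil (F := F) M ≤ h.uFil m :=
  h.genR_mono fun _ hr => ⟨hr.1, hmM.trans hr.2⟩

theorem tval_deep {b : ℕ} (hb : P.isPos b = true) {M : ℤ} (hM : P.ht b < M) {g : GL D.Idx F}
    (hg : g ∈ h.uFil (F := F) M) : tval h b g = 0 := by
  have hle : h.uFil (F := F) M ≤ h.uFil (P.ht b) := uFil_mono h hM.le
  induction hg using Subgroup.closure_induction'' with
  | one => exact tval_one h b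
  | mem x hx =>
    obtain ⟨r, t, hr, rfl⟩ := hx
    rw [tval_xG h hb hr.1 (by linarith [hr.2]), if_neg]
    rintro rfl
    linarith [hr.2]
  | inv_mem x hx =>
    obtain ⟨r, t, hr, rfl⟩ := hx
    rw [h.xG_inv, tval_xG h hb hr.1 (by linarith [hr.2]), if_neg]
    rintro rfl
    linarith [hr.2]
  | mul x y hx hy ihx ihy => rw [tval_mul h hb le_rfl (hle hx) (hle hy), ihx, ihy, add_zero]

/-- The coordinate of an ordered product. -/
theorem tval_prod {b : ℕ} (hb : P.isPos b = true) (t : ℕ → F) : ∀ L : List ℕ, L.Nodup →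
    (∀ r ∈ L, P.isPos r = true ∧ (P.ht b ≤ P.ht r ∨ t r = 0)) →
    (L.map fun r => h.xG r (t r)).prod ∈ h.uFil (F := F) (P.ht b) ∧
      tval h b (L.map fun r => h.xG r (t r)).prod = if b ∈ L then t b else 0 := by
  intro L
  induction L with
  | nil => intro _ _; simp [tval_one h b]
  | cons a L ih =>
    intro hnd hL
    obtain ⟨hm, hv⟩ := ih (List.nodup_cons.1 hnd).2 fun r hr => hL r (List.mem_cons_of_mem _ hr)
    obtain ⟨hap, hah⟩ := hL a List.mem_cons_self
    have hxm : h.xG a (t a) ∈ h.uFil (F := F) (P.ht b) := by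
      rcases hah with e | e
      · exact mem_uFil_xG h hap e _
      · rw [e, h.xG_zero]; exact one_mem _
    rw [List.map_cons, List.prod_cons]
    refine ⟨mul_mem hxm hm, ?_⟩
    rw [tval_mul h hb le_rfl hxm hm, hv]
    by_cases e : a = b
    · subst e
      have : tval h a (h.xG a (t a)) = t a := by rw [tval_xG h hap hap le_rfl, if_pos rfl]
      rw [this, if_neg (List.nodup_cons.1 hnd).1, if_pos List.mem_cons_self, add_zero]
    · have h0 : tval h b (h.xG a (t a)) = 0 := by
        rcases hah with e' | e'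
        · rw [tval_xG h hb hap e', if_neg e]
        · rw [e', h.xG_zero, tval_one]
      rw [h0, zero_add]
      simp [Ne.symm e]

/-- Conjugation by a diagonal element scales the coordinates. -/
theorem tval_conj {χ : ℕ → F} (hχ : IsChar P χ) {b : ℕ} (hb : b < P.nroots) (g : GL D.Idx F) :
    tval h b (h.dG hχ * g * (h.dG hχ)⁻¹) = χ b * tval h b g := by
  simp only [tval, dif_pos hb]
  rw [← mul_div_assoc]
  congr 1
  rw [Units.val_mul, Units.val_mul, h.coe_dG_inv, h.coe_dG, dM, dM, Matrix.mul_diagonal,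
    Matrix.diagonal_mul]
  show (1 : F) * _ * (χ (P.ng b))⁻¹ = _
  rw [hχ.neg b hb, inv_inv]
  ring

theorem tval_gmap (σ : F →+* F) {b : ℕ} (g : GL D.Idx F) :
    tval h b (gmap D σ g) = σ (tval h b g) := by
  unfold tval
  split_ifs with hb
  · rw [map_div₀, map_intCast, coe_gmap, Matrix.map_apply]
  · rw [map_zero]

end BGL

end Cfsg.Agent.Chev
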