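/-
A group between the points over a subfield and the whole group: its unipotent and Borel parts are rational.
-/
import Cfsg.Agent.Lib.Chev.BGL.Coord
import Cfsg.Agent.Lib.Chev.Cent

set_option autoImplicit false
set_option linter.unusedSectionVars false

namespace Cfsg.Agent.Chev

open Cfsg.Lie

namespace BGL

/-- The prime whose multiples among small coefficients vanish. -/
def qOf (p : ℕ) : ℕ := if p = 2 then 2 else if p = 3 then 3 else 0

/-- A coefficient that does not vanish. -/
def nzq (q : ℕ) (c : ℤ) : Bool :=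
  Nat.beq c.natAbs 1 || ((Nat.beq c.natAbs 2 || Nat.beq c.natAbs 3) && !Nat.beq c.natAbs q)

/-- A coefficient that vanishes. -/
def zq (q : ℕ) (c : ℤ) : Bool := !Nat.beq q 0 && Nat.beq (c.natAbs % q) 0

/-- The root elements at `r` and `s` commute. -/
def comQ (P : Pk) (q r s : ℕ) : Bool :=
  Nat.beq s r || (!Nat.beq s (P.ng r) && (P.cterms r s).all fun c => zq q c.2.1)

/-- Commutators with the root element at `s` read off the coordinate at `r` on the filtration above `m`. -/
def pairOK (P : Pk) (q : ℕ) (S : ℕ → Bool) (r s b : ℕ) : Bool :=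
  P.isPos r && Nat.blt s P.nroots && P.isPos b && !Nat.beq r s &&
  (match (P.cterms r s).filter (fun c => Nat.beq c.1 b) with
    | [c] => nzq q c.2.1
    | _ => false) &&
  (posL P).all fun r' => !S r' ||
    (!Nat.beq r' (P.ng s) && (Nat.beq r' s || (P.cterms r' s).all fun c =>
      P.isPos c.1 && (zq q c.2.1 || decide (P.ht b ≤ P.ht c.1)) &&
        (!Nat.beq c.1 b || (Nat.beq r' r && Nat.beq c.2.2.1 1))))

/-- The roots of height at least `m`. -/
def geHt (P : Pk) (m : ℤ) (x : ℕ) : Bool := decide (m ≤ P.ht x)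

/-- Simple roots first, then the positive roots. -/
def candA (P : Pk) : List ℕ := ((List.range P.rank).map P.sim) ++ posL P

/-- A positive partner raising the height. -/
def goodA (P : Pk) (q : ℕ) (m : ℤ) (r : ℕ) : Bool :=
  (candA P).any fun s => P.isPos s &&
    (P.cterms r s).any fun c => decide (m < P.ht c.1) && pairOK P q (geHt P m) r s c.1

/-- The other roots of the level are reached by partners, possibly after one reflection. -/
def excA (P : Pk) (q : ℕ) (r : ℕ) : Bool :=
  (posL P).all fun x => !decide (P.ht r ≤ P.ht x) || Nat.beq x r || goodA P q (P.ht r) x ||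
    (List.range P.rank).any fun i => goodA P q (P.ht r) (P.w i x) &&
      (posL P).all fun y => !decide (P.ht r ≤ P.ht y) || (P.isPos (P.w i y) && decide (P.ht r ≤ P.ht (P.w i y)))

/-- The check for the unipotent part at a root. -/
def ckA (P : Pk) (q r : ℕ) : Bool := !P.isPos r || goodA P q (P.ht r) r || excA P q r

/-- Simple roots, negated simple roots, positive roots. -/
def candB (P : Pk) : List ℕ :=
  ((List.range P.rank).map fun i => P.ng (P.sim i)) ++ ((List.range P.rank).map P.sim) ++ posL P

/-- A partner for the Borel part. -/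
def goodB (P : Pk) (q : ℕ) (S : ℕ → Bool) (r : ℕ) : Bool :=
  (candB P).any fun s => (P.cterms r s).any fun c => pairOK P q S r s c.1

/-- The check for the Borel part at a root: a partner, alone once the others of the level are known. -/
def ckB (P : Pk) (q r : ℕ) : Bool :=
  !P.isPos r || goodB P q (geHt P (P.ht r)) r ||
    (goodB P q (fun x => Nat.beq x r) r &&
      (posL P).all fun x => !decide (P.ht r ≤ P.ht x) || Nat.beq x r || goodB P q (geHt P (P.ht r)) x)

variable {D : ChevalleyDatum} {P : Pk} {F : Type*} [Field F] (h : Ok D P)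
include h

theorem cast_ne_of_nzq (p : ℕ) [hp : Fact p.Prime] [CharP F p] {c : ℤ} (hc : nzq (qOf p) c = true) :
    (c : F) ≠ 0 := by
  intro e
  rw [CharP.intCast_eq_zero_iff F p, ← Int.natAbs_dvd_natAbs, Int.natAbs_natCast] at e
  simp only [nzq, qOf, nbeq, Bool.or_eq_true, Bool.and_eq_true, Bool.not_eq_true', decide_eq_true_eq,
    decide_eq_false_iff_not] at hc
  have h2 := hp.out.two_le
  rcases hc with hc | ⟨hc | hc, hq⟩
  · rw [hc, Nat.dvd_one] at e; omega
  · rw [hc] at e hq
    have := (Nat.prime_dvd_prime_iff_eq hp.out Nat.prime_two).1 e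
    simp [this] at hq
  · rw [hc] at e hq
    have := (Nat.prime_dvd_prime_iff_eq hp.out Nat.prime_three).1 e
    simp [this] at hq

theorem cast_zero_of_zq (p : ℕ) [hp : Fact p.Prime] [CharP F p] {c : ℤ} (hc : zq (qOf p) c = true) :
    (c : F) = 0 := by
  simp only [zq, qOf, nbeq, Bool.and_eq_true, Bool.not_eq_true', decide_eq_true_eq,
    decide_eq_false_iff_not] at hc
  rw [CharP.intCast_eq_zero_iff F p, ← Int.natAbs_dvd_natAbs, Int.natAbs_natCast]
  obtain ⟨h1, h2⟩ := hc
  split_ifs at h1 h2 with a b
  · subst a; exact Nat.dvd_of_mod_eq_zero h2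
  · subst b; exact Nat.dvd_of_mod_eq_zero h2
  · exact absurd rfl h1

theorem comQ_commute (p : ℕ) [Fact p.Prime] [CharP F p] (hC : P.ckComm = true) {r s : ℕ} (hr : r < P.nroots)
    (hs : s < P.nroots) (hc : comQ P (qOf p) r s = true) (t u : F) : Commute (h.xG r t) (h.xG s u) := by
  simp only [comQ, nbeq, Bool.or_eq_true, Bool.and_eq_true, decide_eq_true_eq, Bool.not_eq_true',
    decide_eq_false_iff_not, List.all_eq_true] at hc
  by_cases hsr : s = r
  · subst hsr
    show _ * _ = _ * _
    rw [h.xG_add, h.xG_add, add_comm]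
  obtain ⟨hsn, hz⟩ := hc.resolve_left hsr
  have e := h.comm_xG hC hr hs hsr hsn t u
  rw [List.prod_eq_one, mul_one] at e
  · exact e.symm
  · intro x hx
    simp only [Pk.cword, List.map_map, List.mem_map, Function.comp_apply] at hx
    obtain ⟨c, hcm, rfl⟩ := hx
    rw [Int.cast_mul, cast_zero_of_zq h p (hz c hcm), zero_mul, zero_mul, zero_mul, h.xG_zero]

/-- The commutator with a root element. -/
def cc (s : ℕ) (u : GL D.Idx F) : GL D.Idx F := (h.xG s (1 : F))⁻¹ * u⁻¹ * h.xG s 1 * u

theorem tval_inv {b : ℕ} (hb : P.isPos b = true) {g : GL D.Idx F} (hg : g ∈ h.uFil (F := F) (P.ht b)) :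
    tval h b g⁻¹ = -tval h b g := by
  have e := tval_mul h hb le_rfl hg (inv_mem hg)
  rw [mul_inv_cancel, tval_one] at e
  linear_combination -e

theorem tval_conj_pos (hC : P.ckComm = true) {b : ℕ} (hb : P.isPos b = true) {u g : GL D.Idx F}
    (hu : u ∈ D.posUnipotent F) (hg : g ∈ h.uFil (F := F) (P.ht b)) :
    tval h b (u * g * u⁻¹) = tval h b g := by
  have hk := inv_mem (h.uFil_comm (F := F) hC (P.ht b)
    (Subgroup.commutator_mem_commutator (g₁ := g) (g₂ := u) hg hu))
  rw [commutatorElement_inv, commutatorElement_def] at hk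
  have h1 : u * g * u⁻¹ = (u * g * u⁻¹ * g⁻¹) * g := by group
  rw [h1, tval_mul h hb le_rfl (uFil_mono h (by linarith) hk) hg, tval_deep h hb (by linarith) hk, zero_add]

open scoped commutatorElement in
/-- Commutators of ordered products with a root element. -/
theorem comm_coord (p : ℕ) [Fact p.Prime] [CharP F p] (hC : P.ckComm = true) {S : ℕ → Bool} {r s b : ℕ}
    (hck : pairOK P (qOf p) S r s b = true) :
    ∃ z : ℤ, (z : F) ≠ 0 ∧ ∀ L : List (ℕ × F), (∀ a ∈ L, P.isPos a.1 = true ∧ (S a.1 = true ∨ a.2 = 0)) →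
      cc h s (L.map fun a => h.xG a.1 a.2).prod ∈ h.uFil (F := F) (P.ht b) ∧
      tval h b (cc h s (L.map fun a => h.xG a.1 a.2).prod) =
        (z : F) * (L.map fun a => if a.1 = r then a.2 else 0).sum := by
  classical
  simp only [pairOK, Bool.and_eq_true, Nat.blt_eq] at hck
  obtain ⟨⟨⟨⟨⟨hr, hs⟩, hb⟩, hrs⟩, hone⟩, hall⟩ := hck
  split at hone
  case h_2 => exact absurd hone Bool.false_ne_true
  case h_1 c0 hc0 =>
  simp only [List.all_eq_true, Bool.or_eq_true, Bool.and_eq_true, Bool.not_eq_true', nbeq, decide_eq_true_eq,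
    decide_eq_false_iff_not, mem_posL] at hall
  have hrs' : r ≠ s := by simpa [nbeq] using hrs
  refine ⟨-c0.2.1, by rw [Int.cast_neg, neg_ne_zero]; exact cast_ne_of_nzq h p hone, fun L => ?_⟩
  have hgen : ∀ a : ℕ × F, P.isPos a.1 = true → (S a.1 = true ∨ a.2 = 0) →
      cc h s (h.xG a.1 a.2) ∈ h.uFil (F := F) (P.ht b) ∧
        tval h b (cc h s (h.xG a.1 a.2)) = ((-c0.2.1 : ℤ) : F) * if a.1 = r then a.2 else 0 := by
    rintro ⟨r', t⟩ hp hm
    simp only at hp hm ⊢
    rcases hm with hm | rfl
    swap
    · have : cc h s (h.xG r' (0 : F)) = 1 := by rw [cc, h.xG_zero]; group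
      rw [this]
      exact ⟨one_mem _, by rw [tval_one]; simp⟩
    rcases hall r' hp with e | ⟨hns, e | hterms⟩
    · exact absurd hm (by simp [e])
    · subst e
      have : cc h r' (h.xG r' t) = 1 := by
        rw [cc, h.xG_inv, h.xG_inv, h.xG_add, h.xG_add, h.xG_add,
          show (-1 : F) + -t + 1 + t = 0 by ring, h.xG_zero]
      rw [this, if_neg (Ne.symm hrs'), mul_zero, tval_one]
      exact ⟨one_mem _, rfl⟩
    have hr'n := (P.isPos_iff.1 hp).2
    have hsr : s ≠ r' ∨ s = r' := (ne_or_eq _ _)
    rcases hsr with hsr | hsr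
    swap
    · subst hsr
      have : cc h s (h.xG s t) = 1 := by
        rw [cc, h.xG_inv, h.xG_inv, h.xG_add, h.xG_add, h.xG_add,
          show (-1 : F) + -t + 1 + t = 0 by ring, h.xG_zero]
      rw [this, if_neg (Ne.symm hrs'), mul_zero, tval_one]
      exact ⟨one_mem _, rfl⟩
    have hsn : s ≠ P.ng r' := fun e => hns (by rw [e, Ok.ng_ng hr'n])
    have hcc : cc h s (h.xG r' t) =
        ((P.cterms r' s).map fun c => h.xG c.1 (((c.2.1 * (-1) ^ c.2.2.1 : ℤ) : F) * t ^ c.2.2.1 * (1 : F) ^ c.2.2.2)).prod := by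
      have e := h.comm_xG hC hr'n hs hsr hsn t (1 : F)
      simp only [Pk.cword, List.map_map, Function.comp_def] at e
      rw [cc, mul_assoc _ (h.xG s 1), e]
      group
    rw [hcc]
    have key : ∀ T : List (ℕ × ℤ × ℕ × ℕ), (∀ c ∈ T, c ∈ P.cterms r' s) →
        (T.map fun c => h.xG c.1 (((c.2.1 * (-1) ^ c.2.2.1 : ℤ) : F) * t ^ c.2.2.1 * (1 : F) ^ c.2.2.2)).prod ∈
          h.uFil (F := F) (P.ht b) ∧
        tval h b (T.map fun c => h.xG c.1 (((c.2.1 * (-1) ^ c.2.2.1 : ℤ) : F) * t ^ c.2.2.1 * (1 : F) ^ c.2.2.2)).prod =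
          ((T.filter fun c => Nat.beq c.1 b).map fun c =>
            ((c.2.1 * (-1) ^ c.2.2.1 : ℤ) : F) * t ^ c.2.2.1 * (1 : F) ^ c.2.2.2).sum := by
      intro T
      induction T with
      | nil => intro _; simp [tval_one h b]
      | cons c T ih =>
        intro hT
        obtain ⟨h1, h2⟩ := ih fun x hx => hT x (List.mem_cons_of_mem _ hx)
        obtain ⟨⟨hcp, hch⟩, -⟩ := hterms c (hT c List.mem_cons_self)
        rw [List.map_cons, List.prod_cons]
        rcases hch with hz0 | hch
        · have e0 : ((c.2.1 * (-1) ^ c.2.2.1 : ℤ) : F) * t ^ c.2.2.1 * (1 : F) ^ c.2.2.2 = 0 := by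
            rw [Int.cast_mul, cast_zero_of_zq h p hz0, zero_mul, zero_mul, zero_mul]
          rw [e0, h.xG_zero, one_mul]
          refine ⟨h1, h2.trans ?_⟩
          by_cases e : c.1 = b
          · rw [List.filter_cons_of_pos (by simp [nbeq, e]), List.map_cons, List.sum_cons, e0, zero_add]
          · rw [List.filter_cons_of_neg (by simp [nbeq, e])]
        have hxm := mem_uFil_xG h hcp hch (((c.2.1 * (-1) ^ c.2.2.1 : ℤ) : F) * t ^ c.2.2.1 * (1 : F) ^ c.2.2.2)
        refine ⟨mul_mem hxm h1, ?_⟩
        rw [tval_mul h hb le_rfl hxm h1, h2, tval_xG h hb hcp hch]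
        by_cases e : c.1 = b
        · rw [if_pos e, List.filter_cons_of_pos (by simp [nbeq, e]), List.map_cons, List.sum_cons]
        · rw [if_neg e, zero_add, List.filter_cons_of_neg (by simp [nbeq, e])]
    obtain ⟨h1, h2⟩ := key _ fun c hc => hc
    refine ⟨h1, h2.trans ?_⟩
    split_ifs with e
    · subst e
      rw [hc0]
      have hc : c0 ∈ P.cterms r' s ∧ c0.1 = b := by
        have := (List.mem_filter (p := fun c : ℕ × ℤ × ℕ × ℕ => Nat.beq c.1 b)).1 (hc0 ▸ List.mem_singleton_self c0)
        exact ⟨this.1, by simpa [nbeq] using this.2⟩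
      rcases (hterms c0 hc.1).2 with hh | ⟨-, hi⟩
      · exact absurd hc.2 hh
      · simp [hi]
    · rw [mul_zero, List.filter_eq_nil_iff.2, List.map_nil, List.sum_nil]
      intro c hc
      rcases (hterms c hc).2 with hh | ⟨hr'', -⟩
      · simpa [nbeq] using hh
      · exact absurd hr'' e
  intro hL
  induction L with
  | nil =>
    have : cc h s (1 : GL D.Idx F) = 1 := by rw [cc]; group
    simp [this, tval_one h b]
  | cons a L ih =>
    obtain ⟨hap, hah⟩ := hL a List.mem_cons_self
    obtain ⟨h1, h2⟩ := hgen a hap hah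
    obtain ⟨h3, h4⟩ := ih fun x hx => hL x (List.mem_cons_of_mem _ hx)
    set v := (L.map fun a => h.xG a.1 a.2).prod
    have hv : v ∈ D.posUnipotent F := list_prod_mem fun x hx => by
      obtain ⟨y, hy, rfl⟩ := List.mem_map.1 hx
      exact h.xG_mem_pos (hL y (List.mem_cons_of_mem _ hy)).1 _
    have e : cc h s (h.xG a.1 a.2 * v) = cc h s v * (v⁻¹ * cc h s (h.xG a.1 a.2) * v⁻¹⁻¹) := by
      simp only [cc, inv_inv]
      group
    have h5 := (Subgroup.mem_normalizer_iff.1 (h.pos_normalizes_uFil hC _ (inv_mem hv)) _).1 h1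
    rw [List.map_cons, List.prod_cons, e]
    refine ⟨mul_mem h3 h5, ?_⟩
    rw [tval_mul h hb le_rfl h3 h5, tval_conj_pos h hC hb (inv_mem hv) h1, h2, h4, List.map_cons,
      List.sum_cons]
    ring

/-- Coordinates of an element of the filtration. -/
theorem coords (hC : P.ckComm = true) {m : ℤ} {u : GL D.Idx F} (hu : u ∈ h.uFil (F := F) m) :
    ∃ t : ℕ → F, (∀ r, P.isPos r = true → P.ht r < m → t r = 0) ∧
      u = ((posL P).map fun r => h.xG r (t r)).prod := by
  have hcl : ClosedP P fun r => P.isPos r = true ∧ m ≤ P.ht r := by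
    refine ⟨fun r hr => hr.1, fun r s hr hs k hk => ⟨(h.pos_tgt hr.1 hs.1 hk).1, ?_⟩⟩
    have := h.ht_pos hr.1
    have := h.ht_pos hs.1
    rw [h.ht_tgt (P.isPos_iff.1 hr.1).2 (P.isPos_iff.1 hs.1).2 hk]
    nlinarith [hr.2, hs.2]
  obtain ⟨t, h1, h2⟩ := h.exists_supported hC hcl hu
  exact ⟨t, fun r _ hr => h1 r fun e => absurd e.2 (by omega), h2⟩

theorem coord_eq {m : ℤ} {t : ℕ → F} (ht : ∀ r, P.isPos r = true → P.ht r < m → t r = 0) {b : ℕ}
    (hb : P.isPos b = true) (hbm : P.ht b = m) :
    tval h b ((posL P).map fun r => h.xG r (t r)).prod = t b := by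
  have hnd : (posL P).Nodup := posL_sorted.imp fun h' => Nat.ne_of_lt h'
  rw [(tval_prod h hb t _ hnd fun r hr => ⟨mem_posL.1 hr,
    (le_or_gt (P.ht b) (P.ht r)).imp id fun hl => ht r (mem_posL.1 hr) (hbm ▸ hl)⟩).2, if_pos (mem_posL.2 hb)]

theorem uFil_succ (hC : P.ckComm = true) {m : ℤ} {u : GL D.Idx F} (hu : u ∈ h.uFil (F := F) m)
    (h0 : ∀ b, P.isPos b = true → P.ht b = m → tval h b u = 0) : u ∈ h.uFil (F := F) (m + 1) := by
  obtain ⟨t, ht, rfl⟩ := coords h hC hu
  refine list_prod_mem fun x hx => ?_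
  obtain ⟨r, hr, rfl⟩ := List.mem_map.1 hx
  have hp := mem_posL.1 hr
  rcases lt_trichotomy (P.ht r) m with e | e | e
  · rw [ht r hp e, h.xG_zero]; exact one_mem _
  · have := h0 r hp e
    rw [coord_eq h ht hp e] at this
    rw [this, h.xG_zero]
    exact one_mem _
  · exact mem_uFil_xG h hp (by omega) _

omit h in
/-- A product all but one of whose factors lie in a subgroup. -/
theorem factor_mem {G : Type*} [Group G] {H : Subgroup G} {f : ℕ → G} {r : ℕ} : ∀ L : List ℕ, L.Nodup →
    r ∈ L → (∀ x ∈ L, x ≠ r → f x ∈ H) → (L.map f).prod ∈ H → f r ∈ H := by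
  intro L
  induction L with
  | nil => intro _ hr; exact absurd hr List.not_mem_nil
  | cons a L ih =>
    intro hnd hr hall hp
    rw [List.map_cons, List.prod_cons] at hp
    obtain ⟨hnot, hnd'⟩ := List.nodup_cons.1 hnd
    by_cases e : a = r
    · subst e
      have hL : (L.map f).prod ∈ H := list_prod_mem fun x hx => by
        obtain ⟨y, hy, rfl⟩ := List.mem_map.1 hx
        exact hall y (List.mem_cons_of_mem _ hy) fun e => hnot (e ▸ hy)
      have := mul_mem hp (inv_mem hL)
      simpa using this
    · have ha := hall a List.mem_cons_self e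
      refine ih hnd' ((List.mem_cons.1 hr).resolve_left (Ne.symm e))
        (fun x hx hne => hall x (List.mem_cons_of_mem _ hx) hne) ?_
      have := mul_mem (inv_mem ha) hp
      simpa using this

variable (σ : F →+* F) (H : Subgroup (GL D.Idx F))

/-- `H` holds the rational root elements and no others. -/
structure Tight : Prop where
  le_group : H ≤ D.group F
  rat : ∀ r < P.nroots, ∀ t : F, σ t = t → h.xG r t ∈ H
  tight : ∀ r < P.nroots, ∀ t : F, h.xG r t ∈ H → σ t = t

variable {σ H}

theorem one_mem' (hT : Tight h σ H) {r : ℕ} (hr : r < P.nroots) : h.xG r (1 : F) ∈ H :=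
  hT.rat r hr 1 (map_one σ)

theorem nG_mem' (hT : Tight h σ H) {i : ℕ} (hi : i < P.rank) : h.nG (F := F) i ∈ H :=
  mul_mem (mul_mem (one_mem' h hT (h.sim_lt hi))
    (hT.rat _ (Ok.ng_lt (h.sim_lt hi)) _ (by simp))) (one_mem' h hT (h.sim_lt hi))

theorem rat_prod (hT : Tight h σ H) (t : ℕ → F) {L : List ℕ} (hL : ∀ r ∈ L, r < P.nroots ∧ σ (t r) = t r) :
    (L.map fun r => h.xG r (t r)).prod ∈ H ∧
      gmap D σ (L.map fun r => h.xG r (t r)).prod = (L.map fun r => h.xG r (t r)).prod := by
  refine ⟨list_prod_mem fun x hx => ?_, ?_⟩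
  · obtain ⟨r, hr, rfl⟩ := List.mem_map.1 hx
    exact hT.rat r (hL r hr).1 _ (hL r hr).2
  · rw [map_list_prod, List.map_map]
    refine congrArg List.prod (List.map_congr_left fun r hr => ?_)
    rw [Function.comp_apply, h.gmap_xG σ (hL r hr).1, (hL r hr).2]

/-- Split off the rational part of the lowest level. -/
theorem peel (hC : P.ckComm = true) (hT : Tight h σ H) {m : ℤ} {u : GL D.Idx F} (hu : u ∈ h.uFil (F := F) m)
    (hfix : ∀ b, P.isPos b = true → P.ht b = m → σ (tval h b u) = tval h b u) :
    ∃ f, f ∈ H ∧ gmap D σ f = f ∧ f ∈ h.uFil (F := F) m ∧ u * f⁻¹ ∈ h.uFil (F := F) (m + 1) := by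
  obtain ⟨t, ht, rfl⟩ := coords h hC hu
  set t' : ℕ → F := fun r => if P.ht r = m then t r else 0
  obtain ⟨hfH, hfσ⟩ := rat_prod h hT t' (L := posL P) fun r hr => by
    refine ⟨(P.isPos_iff.1 (mem_posL.1 hr)).2, ?_⟩
    simp only [t']
    split_ifs with e
    · have := hfix r (mem_posL.1 hr) e
      rwa [coord_eq h ht (mem_posL.1 hr) e] at this
    · exact map_zero σ
  have ht' : ∀ r, P.isPos r = true → P.ht r < m → t' r = 0 := fun r _ hr => if_neg (by omega)
  have hfm : ((posL P).map fun r => h.xG r (t' r)).prod ∈ h.uFil (F := F) m := by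
    refine list_prod_mem fun x hx => ?_
    obtain ⟨r, hr, rfl⟩ := List.mem_map.1 hx
    simp only [t']
    split_ifs with e
    · exact mem_uFil_xG h (mem_posL.1 hr) e.ge _
    · rw [h.xG_zero]; exact one_mem _
  refine ⟨_, hfH, hfσ, hfm, uFil_succ h hC (mul_mem hu (inv_mem hfm)) fun b hb hbm => ?_⟩
  rw [tval_mul h hb hbm.le hu (inv_mem hfm), tval_inv h hb (hbm.symm ▸ hfm), coord_eq h ht hb hbm,
    coord_eq h ht' hb hbm]
  simp only [t', if_pos hbm, add_neg_cancel]

theorem uFil_bot {m : ℤ} (hm : (((Finset.range P.nroots).sup fun r => (P.ht r).toNat : ℕ) : ℤ) < m)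
    {u : GL D.Idx F} (hu : u ∈ h.uFil (F := F) m) : u = 1 := by
  have hbot : h.uFil (F := F) m ≤ ⊥ := by
    refine h.genR_le fun r hr => ?_
    exfalso
    have h2 : (P.ht r).toNat ≤ (Finset.range P.nroots).sup fun r => (P.ht r).toNat :=
      Finset.le_sup (f := fun r => (P.ht r).toNat) (Finset.mem_range.2 (P.isPos_iff.1 hr.1).2)
    have := hr.2
    omega
  exact Subgroup.mem_bot.1 (hbot hu)

theorem mem_uFil_one {u : GL D.Idx F} (hu : u ∈ D.posUnipotent F) : u ∈ h.uFil (F := F) 1 :=
  h.posUnipotent_le (fun r hr t => mem_uFil_xG h hr (h.ht_pos hr) t) hu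

/-- A coordinate is rational by a raising partner. -/
theorem fix_of_good (p : ℕ) [Fact p.Prime] [CharP F p] (hC : P.ckComm = true) (hT : Tight h σ H) {m : ℤ} {x : ℕ}
    (hg : goodA P (qOf p) m x = true) (ih : ∀ v ∈ H, v ∈ h.uFil (F := F) (m + 1) → gmap D σ v = v)
    (L : List (ℕ × F)) (hL : ∀ a ∈ L, P.isPos a.1 = true ∧ (m ≤ P.ht a.1 ∨ a.2 = 0))
    (hu : (L.map fun a => h.xG a.1 a.2).prod ∈ H) :
    σ ((L.map fun a => if a.1 = x then a.2 else 0).sum) = (L.map fun a => if a.1 = x then a.2 else 0).sum := by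
  simp only [goodA, List.any_eq_true, Bool.and_eq_true, decide_eq_true_eq] at hg
  obtain ⟨s, -, hs, c, -, hM, hck⟩ := hg
  obtain ⟨z, hz, hz'⟩ := comm_coord (F := F) h p hC hck
  obtain ⟨h1, h2⟩ := hz' L fun a ha => ⟨(hL a ha).1, (hL a ha).2.imp_left decide_eq_true⟩
  have hx := one_mem' h hT (P.isPos_iff.1 hs).2
  have hcH : cc h s (L.map fun a => h.xG a.1 a.2).prod ∈ H :=
    mul_mem (mul_mem (mul_mem (inv_mem hx) (inv_mem hu)) hx) hu
  have e := congrArg (tval h c.1) (ih _ hcH (uFil_mono h (by omega) h1))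
  rw [tval_gmap h σ, h2, map_mul, map_intCast] at e
  exact mul_left_cancel₀ hz e

/-- The exceptional levels, from the table. -/
theorem exc_of_ck (p : ℕ) [Fact p.Prime] [CharP F p] (hC : P.ckComm = true) (hT : Tight h σ H) {r : ℕ}
    (hr : P.isPos r = true) (hck : excA P (qOf p) r = true) {u : GL D.Idx F} (huH : u ∈ H)
    (hu : u ∈ h.uFil (F := F) (P.ht r)) (ih : ∀ v ∈ H, v ∈ h.uFil (F := F) (P.ht r + 1) → gmap D σ v = v) :
    σ (tval h r u) = tval h r u := by
  classical
  obtain ⟨t, ht, rfl⟩ := coords h hC hu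
  rw [coord_eq h ht hr rfl]
  have hnd : (posL P).Nodup := posL_sorted.imp fun h' => Nat.ne_of_lt h'
  have hsum : ∀ (g : ℕ → F) (x : ℕ), ∀ L : List ℕ, L.Nodup →
      (L.map fun y => if y = x then g y else 0).sum = if x ∈ L then g x else 0 := by
    intro g x L
    induction L with
    | nil => simp
    | cons a L ih =>
      intro hn
      obtain ⟨hnot, hn'⟩ := List.nodup_cons.1 hn
      rw [List.map_cons, List.sum_cons, ih hn']
      by_cases e : a = x
      · subst e; simp [hnot]
      · simp [e, Ne.symm e]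
  simp only [excA, List.all_eq_true, Bool.or_eq_true, Bool.and_eq_true, Bool.not_eq_true', nbeq,
    decide_eq_true_eq, decide_eq_false_iff_not, List.any_eq_true, List.mem_range, mem_posL] at hck
  have hothers : ∀ x, P.isPos x = true → x ≠ r → σ (t x) = t x := by
    intro x hx hxr
    by_cases hlow : P.ht x < P.ht r
    · rw [ht x hx hlow, map_zero]
    rcases hck x hx with ((e | e) | e) | ⟨i, hi, hg, hstab⟩
    · omega
    · exact absurd e hxr
    · have h3 := fix_of_good h p hC hT e ih ((posL P).map fun y => (y, t y)) (fun a ha => by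
          obtain ⟨y, hy, rfl⟩ := List.mem_map.1 ha
          exact ⟨mem_posL.1 hy, (le_or_gt (P.ht r) (P.ht y)).imp id (ht y (mem_posL.1 hy))⟩)
        (by simpa [List.map_map, Function.comp_def] using huH)
      simpa [List.map_map, Function.comp_def, hsum t x _ hnd, mem_posL.2 hx] using h3
    · have hxn := (P.isPos_iff.1 hx).2
      set L := ((posL P).filter fun y => decide (P.ht r ≤ P.ht y)).map fun y =>
        (P.w i y, (P.eta i y : F) * t y)
      have hsub : (((posL P).filter fun y => decide (P.ht r ≤ P.ht y)).map fun y => h.xG y (t y)).prod =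
          ((posL P).map fun y => h.xG y (t y)).prod := by
        rw [← Aut.prod_filter h (fun y => decide (P.ht r ≤ P.ht y)) t (posL P)]
        refine congrArg List.prod (List.map_congr_left fun y hy => ?_)
        by_cases e : P.ht r ≤ P.ht y
        · simp [e]
        · simp [e, ht y (mem_posL.1 hy) (by omega)]
      have hn := nG_mem' h hT hi
      have hL' : (L.map fun a => h.xG a.1 a.2).prod =
          h.nG i * ((posL P).map fun y => h.xG y (t y)).prod * (h.nG i)⁻¹ := by
        rw [← hsub, ← MulAut.conj_apply, map_list_prod]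
        simp only [L, List.map_map]
        refine congrArg List.prod (List.map_congr_left fun y hy => ?_)
        simp only [Function.comp, MulAut.conj_apply,
          h.nG_xG hi (P.isPos_iff.1 (mem_posL.1 (List.mem_filter.1 hy).1)).2]
      have h3 := fix_of_good h p hC hT hg ih L (fun a ha => by
          obtain ⟨y, hy, rfl⟩ := List.mem_map.1 ha
          obtain ⟨hy1, hy2⟩ := List.mem_filter.1 hy
          obtain h4 | h4 := hstab y (mem_posL.1 hy1)
          · exact absurd (of_decide_eq_true hy2) h4
          · exact ⟨h4.1, Or.inl h4.2⟩)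
        (by rw [hL']; exact mul_mem (mul_mem hn huH) (inv_mem hn))
      have hval : (L.map fun a => if a.1 = P.w i x then a.2 else 0).sum = (P.eta i x : F) * t x := by
        simp only [L, List.map_map, Function.comp_def]
        have hrw : ((posL P).filter fun y => decide (P.ht r ≤ P.ht y)).map
              (fun y => if P.w i y = P.w i x then (P.eta i y : F) * t y else 0) =
            ((posL P).filter fun y => decide (P.ht r ≤ P.ht y)).map
              (fun y => if y = x then (P.eta i y : F) * t y else 0) := by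
          refine List.map_congr_left fun y hy => if_congr ⟨fun e => ?_, fun e => by rw [e]⟩ rfl rfl
          exact h.w_inj hi (P.isPos_iff.1 (mem_posL.1 (List.mem_filter.1 hy).1)).2 hxn e
        rw [hrw, hsum (fun y => (P.eta i y : F) * t y) x _ (hnd.filter _), if_pos]
        exact List.mem_filter.2 ⟨mem_posL.2 hx, decide_eq_true (by omega)⟩
      rw [hval, map_mul, map_intCast] at h3
      rcases h.eta_cases i x with e | e <;> simpa [e] using h3
  have hm : h.xG r (t r) ∈ H := factor_mem (f := fun y => h.xG y (t y)) _ hnd (mem_posL.2 hr)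
    (fun x hx hne => hT.rat x (P.isPos_iff.1 (mem_posL.1 hx)).2 _ (hothers x (mem_posL.1 hx) hne)) huH
  exact hT.tight r (P.isPos_iff.1 hr).2 _ hm

/-- The unipotent part of `H` is rational. -/
theorem U_fixed (p : ℕ) [Fact p.Prime] [CharP F p] (hC : P.ckComm = true) (hT : Tight h σ H)
    (hexc : ∀ r, P.isPos r = true → goodA P (qOf p) (P.ht r) r = false → ∀ u ∈ H,
      u ∈ h.uFil (F := F) (P.ht r) → (∀ v ∈ H, v ∈ h.uFil (F := F) (P.ht r + 1) → gmap D σ v = v) →
        σ (tval h r u) = tval h r u)
    {u : GL D.Idx F} (huH : u ∈ H) (hu : u ∈ D.posUnipotent F) : gmap D σ u = u := by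
  set N : ℕ := (Finset.range P.nroots).sup fun r => (P.ht r).toNat
  have main : ∀ (k : ℕ) (m : ℤ), (N : ℤ) < m + k → ∀ v ∈ H, v ∈ h.uFil (F := F) m → gmap D σ v = v := by
    intro k
    induction k with
    | zero => intro m hm v _ hv; rw [uFil_bot h (by simpa using hm) hv, map_one]
    | succ k ih =>
      intro m hm v hvH hv
      have ih' := ih (m + 1) (by push_cast at hm ⊢; omega)
      have hfix : ∀ b, P.isPos b = true → P.ht b = m → σ (tval h b v) = tval h b v := by
        intro b hb hbm
        subst hbm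
        by_cases hg : goodA P (qOf p) (P.ht b) b = true
        · obtain ⟨t, ht, rfl⟩ := coords h hC hv
          have hnd : (posL P).Nodup := posL_sorted.imp fun h' => Nat.ne_of_lt h'
          have h3 := fix_of_good h p hC hT hg ih' ((posL P).map fun y => (y, t y)) (fun a ha => by
              obtain ⟨y, hy, rfl⟩ := List.mem_map.1 ha
              exact ⟨mem_posL.1 hy, (le_or_gt (P.ht b) (P.ht y)).imp id (ht y (mem_posL.1 hy))⟩)
            (by simpa [List.map_map, Function.comp_def] using hvH)
          rw [coord_eq h ht hb rfl]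
          have e : ∀ L : List ℕ, L.Nodup → (L.map fun y => if y = b then t y else 0).sum =
              if b ∈ L then t b else 0 := by
            intro L
            induction L with
            | nil => simp
            | cons a L ih =>
              intro hn
              obtain ⟨hnot, hn'⟩ := List.nodup_cons.1 hn
              rw [List.map_cons, List.sum_cons, ih hn']
              by_cases e : a = b
              · subst e; simp [hnot]
              · simp [e, Ne.symm e]
          simpa [List.map_map, Function.comp_def, e _ hnd, mem_posL.2 hb] using h3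
        · exact hexc b hb (by simpa using hg) v hvH hv ih'
      obtain ⟨f, hf, hfσ, -, hvf⟩ := peel h hC hT hv hfix
      have e := ih' _ (mul_mem hvH (inv_mem hf)) hvf
      rw [map_mul, map_inv, hfσ] at e
      exact mul_right_cancel e
  exact main (N + 1) 1 (by push_cast; omega) u huH (mem_uFil_one h hu)

/-- A diagonal element with rational simple characters is rational. -/
theorem hHom_fixed (c : Fin P.rank → Fˣ) (hsim : ∀ i < P.rank, σ (hchar P c (P.sim i)) = hchar P c (P.sim i)) :
    (∀ r < P.nroots, σ (hchar P c r) = hchar P c r) ∧ gmap D σ (h.hHom c) = h.hHom c := by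
  have hall : ∀ r < P.nroots, σ (hchar P c r) = hchar P c r := by
    refine h.root_induction (Q := fun r => σ (hchar P c r) = hchar P c r) hsim fun i hi r hr hQ => ?_
    have e : hchar P c (P.w i r) = hchar P c r / hchar P c (P.sim i) ^ P.A i r := by
      unfold hchar
      rw [← Finset.prod_zpow, ← Finset.prod_div_distrib]
      refine Finset.prod_congr rfl fun j _ => ?_
      rw [h.A_w hi j.isLt hr, zpow_sub₀ (Units.ne_zero _), mul_comm (P.A i r), zpow_mul]
    rw [e, map_div₀, map_zpow₀, hQ, hsim i hi]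
  refine ⟨hall, ?_⟩
  apply Units.ext
  rw [coe_gmap, h.coe_hHom, dM, Matrix.diagonal_map (map_zero σ)]
  congr 1
  funext x
  rcases x with i | s
  · simp
  · exact hall _ (h.slt s)

/-- The Borel part of `H` is rational. -/
theorem B_fixed (p : ℕ) [Fact p.Prime] [CharP F p] (hC : P.ckComm = true) (hT : Tight h σ H)
    (hU : ∀ v ∈ H, v ∈ D.posUnipotent F → gmap D σ v = v)
    (hck : ∀ r, P.isPos r = true → ckB P (qOf p) r = true)
    {b : GL D.Idx F} (hbH : b ∈ H) (hb : b ∈ D.borelSubgroup F) : gmap D σ b = b := by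
  obtain ⟨v, hv, d, hd, rfl⟩ := h.mem_borel hb
  obtain ⟨c, rfl⟩ := h.mem_diagonal_iff.1 hd
  set d := h.hHom c
  set χ := hchar P c
  have hvd : d⁻¹ * v * d ∈ D.posUnipotent F := by
    simpa using (Subgroup.mem_normalizer_iff.1 (h.diagonal_normalizes (inv_mem hd)) v).1 hv
  set u := d⁻¹ * v * d with hu_def
  have hbu : v * d = d * u := by rw [hu_def]; group
  rw [hbu] at hbH ⊢
  have hsim : ∀ i < P.rank, σ (χ (P.sim i)) = χ (P.sim i) := by
    intro i hi
    have hs := h.sim_pos hi
    have hsn := h.sim_lt hi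
    have hht : P.ht (P.sim i) = 1 := by
      have hset : (List.range P.rank).toFinset = Finset.range P.rank := by ext; simp
      rw [Pk.ht, ← List.sum_toFinset _ List.nodup_range, hset,
        Finset.sum_congr rfl fun j hj => h.rv_sim hi (Finset.mem_range.1 hj)]
      simp [hi]
    have hx1 : h.xG (P.sim i) (1 : F) ∈ h.uFil (F := F) (P.ht (P.sim i)) := mem_uFil_xG h hs le_rfl _
    have hconjU : u * h.xG (P.sim i) 1 * u⁻¹ ∈ D.posUnipotent F :=
      mul_mem (mul_mem hvd (h.xG_mem_pos hs _)) (inv_mem hvd)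
    have hinU : d * (u * h.xG (P.sim i) 1 * u⁻¹) * d⁻¹ ∈ D.posUnipotent F :=
      (Subgroup.mem_normalizer_iff.1 (h.diagonal_normalizes hd) _).1 hconjU
    have hinH : d * (u * h.xG (P.sim i) 1 * u⁻¹) * d⁻¹ ∈ H := by
      rw [show d * (u * h.xG (P.sim i) 1 * u⁻¹) * d⁻¹ = (d * u) * h.xG (P.sim i) 1 * (d * u)⁻¹ by group]
      exact mul_mem (mul_mem hbH (one_mem' h hT hsn)) (inv_mem hbH)
    have e := congrArg (tval h (P.sim i)) (hU _ hinH hinU)
    rw [tval_gmap h σ, show d = h.dG (h.isChar_hchar c) from rfl, tval_conj h _ hsn,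
      tval_conj_pos h hC hs hvd hx1, tval_xG h hs hs le_rfl, if_pos rfl, mul_one] at e
    exact e
  obtain ⟨hχ, hdσ⟩ := hHom_fixed h (σ := σ) c hsim
  set N : ℕ := (Finset.range P.nroots).sup fun r => (P.ht r).toNat
  have main : ∀ (k : ℕ) (m : ℤ), (N : ℤ) < m + k → ∀ w, d * w ∈ H → w ∈ h.uFil (F := F) m → gmap D σ w = w := by
    intro k
    induction k with
    | zero => intro m hm w _ hw; rw [uFil_bot h (by simpa using hm) hw, map_one]
    | succ k ih =>
      intro m hm w hwH hw
      have hone : ∀ (S : ℕ → Bool) (r : ℕ), goodB P (qOf p) S r = true → ∀ L : List ℕ, L.Nodup → r ∈ L →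
          ∀ t : ℕ → F, (∀ x ∈ L, P.isPos x = true ∧ (S x = true ∨ t x = 0)) →
          d * (L.map fun y => h.xG y (t y)).prod ∈ H → σ (t r) = t r := by
        intro S r hg L hnd hrL t hL hwH
        simp only [goodB, List.any_eq_true] at hg
        obtain ⟨s, -, c', -, hs⟩ := hg
        obtain ⟨z, hz, hz'⟩ := comm_coord (F := F) h p hC hs
        obtain ⟨h1, h2⟩ := hz' (L.map fun y => (y, t y)) fun a ha => by
          obtain ⟨y, hy, rfl⟩ := List.mem_map.1 ha
          exact hL y hy
        simp only [List.map_map, Function.comp_def] at h1 h2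
        set w := (L.map fun y => h.xG y (t y)).prod
        have hsn : s < P.nroots := by
          simp only [pairOK, Bool.and_eq_true, Nat.blt_eq] at hs
          exact hs.1.1.1.1.2
        have hcH : cc h s w ∈ H := by
          have h3 : h.xG s (χ s) ∈ H := hT.rat s hsn _ (hχ s hsn)
          have h4 : (d * w)⁻¹ * h.xG s (χ s) * (d * w) = w⁻¹ * h.xG s 1 * w := by
            have e := h.hHom_xG c hsn (1 : F)
            rw [mul_one] at e
            rw [← e]
            simp only [d]
            group
          have h5 : w⁻¹ * h.xG s 1 * w ∈ H := h4 ▸ mul_mem (mul_mem (inv_mem hwH) h3) hwH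
          rw [cc, mul_assoc _ _ w, mul_assoc, ← mul_assoc w⁻¹]
          exact mul_mem (inv_mem (one_mem' h hT hsn)) h5
        have e := congrArg (tval h c'.1) (hU _ hcH (h.uFil_le_pos _ h1))
        rw [tval_gmap h σ, h2, map_mul, map_intCast] at e
        have e2 : ∀ L : List ℕ, L.Nodup → (L.map fun y => if y = r then t y else 0).sum =
            if r ∈ L then t r else 0 := by
          intro L
          induction L with
          | nil => simp
          | cons a L ih =>
            intro hn
            obtain ⟨hnot, hn'⟩ := List.nodup_cons.1 hn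
            rw [List.map_cons, List.sum_cons, ih hn']
            by_cases e : a = r
            · subst e; simp [hnot]
            · simp [e, Ne.symm e]
        rw [e2 _ hnd, if_pos hrL] at e
        exact mul_left_cancel₀ hz e
      have hfix : ∀ b, P.isPos b = true → P.ht b = m → σ (tval h b w) = tval h b w := by
        intro r hr hrm
        subst hrm
        obtain ⟨t, ht, rfl⟩ := coords h hC hw
        rw [coord_eq h ht hr rfl]
        have hnd : (posL P).Nodup := posL_sorted.imp fun h' => Nat.ne_of_lt h'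
        have hsupp : ∀ x ∈ posL P, P.isPos x = true ∧ (geHt P (P.ht r) x = true ∨ t x = 0) := fun x hx =>
          ⟨mem_posL.1 hx, (le_or_gt (P.ht r) (P.ht x)).imp decide_eq_true (ht x (mem_posL.1 hx))⟩
        have hg := hck r hr
        simp only [ckB, hr, Bool.not_true, Bool.false_or, Bool.or_eq_true, Bool.and_eq_true, List.all_eq_true,
          Bool.not_eq_true', decide_eq_false_iff_not, nbeq, decide_eq_true_eq, mem_posL] at hg
        rcases hg with hg | ⟨hg, hall⟩
        · exact hone _ r hg _ hnd (mem_posL.2 hr) t hsupp hwH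
        have hothers : ∀ x, P.isPos x = true → x ≠ r → σ (t x) = t x := by
          intro x hx hxr
          by_cases hlow : P.ht x < P.ht r
          · rw [ht x hx hlow, map_zero]
          rcases hall x hx with (e | e) | e
          · exact absurd (not_lt.1 hlow) e
          · exact absurd e hxr
          · exact hone _ x e _ hnd (mem_posL.2 hx) t hsupp hwH
        have hdf : ∀ x, P.isPos x = true → x ≠ r → d * h.xG x (t x) * d⁻¹ ∈ H := fun x hx hne => by
          rw [h.hHom_xG c (P.isPos_iff.1 hx).2]
          exact hT.rat x (P.isPos_iff.1 hx).2 _ (by rw [map_mul, hχ x (P.isPos_iff.1 hx).2, hothers x hx hne])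
        have hsingle : d * ([r].map fun y => h.xG y (t y)).prod ∈ H := by
          have key : ∀ L : List ℕ, L.Nodup → r ∈ L → (∀ x ∈ L, P.isPos x = true) →
              d * (L.map fun y => h.xG y (t y)).prod ∈ H → d * h.xG r (t r) ∈ H := by
            intro L
            induction L with
            | nil => intro _ hr; exact absurd hr List.not_mem_nil
            | cons a L ih =>
              intro hn hr' hpos hp
              obtain ⟨hnot, hn'⟩ := List.nodup_cons.1 hn
              rw [List.map_cons, List.prod_cons] at hp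
              have hpos' : ∀ x ∈ L, P.isPos x = true := fun x hx => hpos x (List.mem_cons_of_mem _ hx)
              by_cases e : a = r
              · subst e
                have hL : (L.map fun y => h.xG y (t y)).prod ∈ H := list_prod_mem fun x hx => by
                  obtain ⟨y, hy, rfl⟩ := List.mem_map.1 hx
                  exact hT.rat y (P.isPos_iff.1 (hpos' y hy)).2 _
                    (hothers y (hpos' y hy) fun e => hnot (e ▸ hy))
                have := mul_mem hp (inv_mem hL)
                rwa [← mul_assoc d, mul_inv_cancel_right] at this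
              · refine ih hn' ((List.mem_cons.1 hr').resolve_left (Ne.symm e)) hpos' ?_
                have := mul_mem (inv_mem (hdf a (hpos a List.mem_cons_self) e)) hp
                convert this using 1
                group
          simpa using key _ hnd (mem_posL.2 hr) (fun x hx => mem_posL.1 hx) hwH
        exact hone _ r hg [r] (List.nodup_singleton r) List.mem_cons_self t
          (fun x hx => by rw [List.mem_singleton.1 hx]; exact ⟨hr, Or.inl (decide_eq_true rfl)⟩) hsingle
      obtain ⟨f, hf, hfσ, -, hwf⟩ := peel h hC hT hw hfix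
      have e := ih (m + 1) (by push_cast at hm ⊢; omega) _ (by rw [← mul_assoc]; exact mul_mem hwH (inv_mem hf)) hwf
      rw [map_mul, map_inv, hfσ] at e
      exact mul_right_cancel e
  rw [map_mul, hdσ, main (N + 1) 1 (by push_cast; omega) u hbH (mem_uFil_one h hvd)]

end BGL

end Cfsg.Agent.Chev
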