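/-
The root elements of a group over a subfield are indexed by one larger subfield.
-/
import Cfsg.Agent.Lib.Chev.BGL.Step

set_option autoImplicit false
set_option linter.unusedSectionVars false

namespace Cfsg.Agent.Chev

open Cfsg.Lie

namespace BGL

/-- A pair of roots in given classes whose commutator has one surviving term, bilinear, in a given class. -/
def ckProd (P : Pk) (q : ℕ) (lng : ℕ → Bool) (b1 b2 b3 : Bool) : Bool :=
  P.allRoots.any fun r => lng r == b1 && P.allRoots.any fun s => lng s == b2 && !Nat.beq s r &&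
    !Nat.beq s (P.ng r) &&
    match (P.cterms r s).filter fun c => !zq q c.2.1 with
    | [c] => nzq q c.2.1 && Nat.beq c.2.2.1 1 && Nat.beq c.2.2.2 1 && lng c.1 == b3 && Nat.blt c.1 P.nroots
    | _ => false

/-- The indices reached through edges between simple roots of the same length. -/
def reach (P : Pk) (i0 : ℕ) : ℕ → List ℕ
  | 0 => [i0]
  | k + 1 => reach P i0 k ++ (List.range P.rank).filter fun j => (reach P i0 k).any fun i =>
      Nat.blt i P.rank && Nat.beq (P.w i (P.w j (P.sim i))) (P.sim j)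

/-- Two classes of roots, each one orbit. -/
def ckCls (P : Pk) (lng : ℕ → Bool) (il is' : ℕ) : Bool :=
  Nat.blt il P.rank && Nat.blt is' P.rank &&
  ((List.range P.rank).all fun i => P.allRoots.all fun r => lng (P.w i r) == lng r) &&
  lng (P.sim il) &&
  ((List.range P.rank).all fun j =>
    if lng (P.sim j) then (reach P il P.rank).contains j
    else (reach P is' P.rank).contains j && !lng (P.sim is'))

/-- The short roots follow the long ones. -/
def ckLink (P : Pk) (q : ℕ) (lng : ℕ → Bool) : Bool :=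
  (P.allRoots.all fun r => lng r) ||
  ((P.allRoots.any fun l => lng l && P.allRoots.any fun s => !lng s && decide (P.pair l s = 1)) &&
    (ckProd P q lng false false true ||
      (!Nat.beq q 0 && ckProd P q lng false false false &&
        P.allRoots.any fun s => !lng s && P.allRoots.any fun l => lng l && decide (P.pair s l = (q : ℤ)))))

/-- Multiplication and linking. -/
def ckMul (P : Pk) (q : ℕ) (lng : ℕ → Bool) : Bool := ckProd P q lng true true true && ckLink P q lng

variable {D : ChevalleyDatum} {P : Pk} {F : Type*} [Field F] (h : Ok D P) (H : Subgroup (GL D.Idx F))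

/-- The parameters of the root elements in `H`. -/
def parA (r : ℕ) : Set F := {t | h.xG r t ∈ H}

variable {H}
include h

theorem parA_add {r : ℕ} {t u : F} (ht : t ∈ parA h H r) (hu : u ∈ parA h H r) : t + u ∈ parA h H r := by
  show _ ∈ H
  rw [← h.xG_add]
  exact mul_mem ht hu

theorem parA_zero (r : ℕ) : (0 : F) ∈ parA h H r := by show _ ∈ H; rw [h.xG_zero]; exact one_mem _

theorem parA_neg {r : ℕ} {t : F} (ht : t ∈ parA h H r) : -t ∈ parA h H r := by
  show _ ∈ H
  rw [← h.xG_inv]
  exact inv_mem ht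

theorem parA_int {r : ℕ} {t : F} (ht : t ∈ parA h H r) (z : ℤ) : (z : F) * t ∈ parA h H r := by
  induction z using Int.induction_on with
  | zero => simpa using parA_zero h r
  | succ n ih => simpa [add_mul] using parA_add h ih ht
  | pred n ih =>
    push_cast at ih ⊢
    rw [sub_mul, one_mul, sub_eq_add_neg]
    exact parA_add h ih (parA_neg h ht)

theorem parA_cancel (p : ℕ) [hp : Fact p.Prime] [CharP F p] {r : ℕ} {t : F} {z : ℤ} (hz : (z : F) ≠ 0)
    (ht : (z : F) * t ∈ parA h H r) : t ∈ parA h H r := by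
  have hz' : (z : ZMod p) ≠ 0 := fun e => hz (by
    rw [CharP.intCast_eq_zero_iff F p]
    exact (ZMod.intCast_zmod_eq_zero_iff_dvd z p).1 e)
  have h1 := congrArg (ZMod.castHom dvd_rfl F) (ZMod.pow_card_sub_one_eq_one hz')
  rw [map_pow, map_intCast, map_one] at h1
  have h2 := parA_int h ht (z ^ (p - 2))
  rwa [Int.cast_pow, ← mul_assoc, ← pow_succ, show p - 2 + 1 = p - 1 by have := hp.out.two_le; omega, h1,
    one_mul] at h2

omit h in
theorem prod_map_filter {G : Type*} [Monoid G] {ι : Type*} (f : ι → G) (k : ι → Bool) : ∀ L : List ι,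
    (∀ x ∈ L, k x = false → f x = 1) → (L.map f).prod = ((L.filter k).map f).prod := by
  intro L
  induction L with
  | nil => simp
  | cons a L ih =>
    intro hL
    rw [List.map_cons, List.prod_cons, ih fun x hx => hL x (List.mem_cons_of_mem _ hx)]
    cases hk : k a
    · rw [List.filter_cons_of_neg (by simp [hk]), hL a List.mem_cons_self hk, one_mul]
    · rw [List.filter_cons_of_pos hk, List.map_cons, List.prod_cons]

theorem comm_mem (hC : P.ckComm = true) {r s : ℕ} (hr : r < P.nroots) (hs : s < P.nroots) (hsr : s ≠ r)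
    (hsn : s ≠ P.ng r) {t u : F} (ht : t ∈ parA h H r) (hu : u ∈ parA h H s) :
    ((P.cterms r s).map fun c =>
      h.xG c.1 (((c.2.1 * (-1) ^ c.2.2.1 : ℤ) : F) * t ^ c.2.2.1 * u ^ c.2.2.2)).prod ∈ H := by
  have e := h.comm_xG hC hr hs hsr hsn t u
  simp only [Pk.cword, List.map_map, Function.comp_def] at e
  rw [← inv_mul_eq_iff_eq_mul] at e
  rw [← e]
  exact mul_mem (inv_mem (mul_mem ht hu)) (mul_mem hu ht)

/-- The product rule. -/
theorem prod_rule (p : ℕ) [Fact p.Prime] [CharP F p] (hC : P.ckComm = true) {lng : ℕ → Bool} {T : Bool → Set F}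
    (hT : ∀ r < P.nroots, parA h H r = T (lng r)) {b1 b2 b3 : Bool} (hck : ckProd P (qOf p) lng b1 b2 b3 = true)
    {t u : F} (ht : t ∈ T b1) (hu : u ∈ T b2) : t * u ∈ T b3 := by
  simp only [ckProd, List.any_eq_true, Bool.and_eq_true, Pk.mem_allRoots, beq_iff_eq, Bool.not_eq_true',
    nbeq, decide_eq_false_iff_not] at hck
  obtain ⟨r, hr, hr1, s, hs, ⟨⟨hs2, hsr⟩, hsn⟩, hm⟩ := hck
  split at hm
  case h_2 => exact absurd hm Bool.false_ne_true
  case h_1 c0 hc0 =>
  simp only [Bool.and_eq_true, decide_eq_true_eq, beq_iff_eq, Nat.blt_eq] at hm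
  obtain ⟨⟨⟨⟨hnz, hi⟩, hj⟩, h3⟩, hcn⟩ := hm
  rw [← hr1, ← hT r hr] at ht
  rw [← hs2, ← hT s hs] at hu
  have e := comm_mem h hC hr hs hsr hsn ht hu
  rw [prod_map_filter _ (fun c => !zq (qOf p) c.2.1) _ (fun c _ hc => by
    rw [Int.cast_mul, cast_zero_of_zq h p (by simpa using hc), zero_mul, zero_mul, zero_mul, h.xG_zero]),
    hc0] at e
  simp only [List.map_cons, List.map_nil, List.prod_cons, List.prod_nil, mul_one, hi, hj, pow_one] at e
  rw [← h3, ← hT c0.1 hcn]
  refine parA_cancel h p (z := c0.2.1 * -1) ?_ (by rw [← mul_assoc]; exact e)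
  rw [Int.cast_mul]
  exact mul_ne_zero (cast_ne_of_nzq h p hnz) (by simp)

section Base

variable (hone : ∀ r < P.nroots, (1 : F) ∈ parA h H r)
include hone

theorem nG_mem_H {i : ℕ} (hi : i < P.rank) : h.nG (F := F) i ∈ H :=
  mul_mem (mul_mem (hone _ (h.sim_lt hi)) (by
    have := parA_neg h (hone _ (Ok.ng_lt (P := P) (h.sim_lt hi)))
    simpa [parA] using this)) (hone _ (h.sim_lt hi))

theorem parA_w {i r : ℕ} (hi : i < P.rank) (hr : r < P.nroots) : parA h H (P.w i r) = parA h H r := by
  have key : ∀ r < P.nroots, ∀ t ∈ parA h H r, t ∈ parA h H (P.w i r) := by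
    intro r hr t ht
    have e : h.xG (P.w i r) ((P.eta i r : F) * t) ∈ H := by
      rw [← h.nG_xG hi hr]
      exact mul_mem (mul_mem (nG_mem_H h hone hi) ht) (inv_mem (nG_mem_H h hone hi))
    rcases h.eta_cases i r with e' | e' <;> rw [e'] at e
    · simpa [parA] using e
    · have := parA_neg h (r := P.w i r) (t := ((-1 : ℤ) : F) * t) e
      simpa using this
  refine Set.Subset.antisymm (fun t ht => ?_) (key r hr)
  have := key _ (h.w_lt hi hr) t ht
  rwa [h.w_w hi hr] at this

theorem reach_eq {i0 : ℕ} (hi0 : i0 < P.rank) : ∀ k, ∀ j ∈ reach P i0 k,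
    j < P.rank ∧ parA h H (P.sim j) = parA h H (P.sim i0) := by
  intro k
  induction k with
  | zero => intro j hj; rw [List.mem_singleton.1 hj]; exact ⟨hi0, rfl⟩
  | succ k ih =>
    intro j hj
    rcases List.mem_append.1 hj with hj | hj
    · exact ih j hj
    simp only [List.mem_filter, List.mem_range, List.any_eq_true, Bool.and_eq_true, Nat.blt_eq, nbeq,
      decide_eq_true_eq] at hj
    obtain ⟨hjr, i, hi, hir, e⟩ := hj
    refine ⟨hjr, ?_⟩
    rw [← (ih i hi).2, ← e, parA_w h hone hir (h.w_lt hjr (h.sim_lt hir)), parA_w h hone hjr (h.sim_lt hir)]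

theorem classes {lng : ℕ → Bool} {il is' : ℕ} (hck : ckCls P lng il is' = true) : ∀ r < P.nroots,
    parA h H r = if lng r then parA h H (P.sim il) else parA h H (P.sim is') := by
  simp only [ckCls, Bool.and_eq_true, List.all_eq_true, Pk.mem_allRoots, List.mem_range, Nat.blt_eq,
    beq_iff_eq] at hck
  obtain ⟨⟨⟨⟨hil, his⟩, hw⟩, hl⟩, hreach⟩ := hck
  refine h.root_induction (Q := fun r => parA h H r =
    if lng r then parA h H (P.sim il) else parA h H (P.sim is')) (fun j hj => ?_) (fun i hi r hr hQ => ?_)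
  · have := hreach j hj
    split_ifs with e
    · rw [if_pos e] at this
      exact (reach_eq h hone hil _ j (by simpa using this)).2
    · rw [if_neg e, Bool.and_eq_true] at this
      exact (reach_eq h hone his _ j (by simpa using this.1)).2
  · rw [parA_w h hone hi hr, hQ, hw i hi r hr]

omit h hone in
theorem inv_mem_of_mul [Fintype F] {A : Set F} (h1 : (1 : F) ∈ A) (hm : ∀ t ∈ A, ∀ u ∈ A, t * u ∈ A) {t : F}
    (ht : t ∈ A) : t⁻¹ ∈ A := by
  have hpow : ∀ n : ℕ, t ^ n ∈ A := fun n => by
    induction n with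
    | zero => simpa using h1
    | succ n ih => rw [pow_succ]; exact hm _ ih _ ht
  by_cases h0 : t = 0
  · simpa [h0] using h0 ▸ ht
  have hc : 2 ≤ Fintype.card F := Fintype.one_lt_card
  have e : t ^ (Fintype.card F - 2) = t⁻¹ := by
    refine eq_inv_of_mul_eq_one_left ?_
    rw [← pow_succ, show Fintype.card F - 2 + 1 = Fintype.card F - 1 by omega,
      FiniteField.pow_card_sub_one_eq_one t h0]
  exact e ▸ hpow _

omit h hone in
theorem root_mem [Fintype F] (p : ℕ) [Fact p.Prime] [CharP F p] {A : Set F}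
    (hm : ∀ t ∈ A, ∀ u ∈ A, t * u ∈ A) {t : F} (ht : t ^ p ∈ A) : t ∈ A := by
  have hp := (Fact.out : p.Prime).two_le
  have hpow : ∀ u ∈ A, u ^ p ∈ A := fun u hu => by
    have : ∀ n : ℕ, u ^ (n + 1) ∈ A := fun n => by
      induction n with
      | zero => simpa using hu
      | succ n ih => rw [pow_succ]; exact hm _ ih _ hu
    simpa [show p - 1 + 1 = p by omega] using this (p - 1)
  have hinj : Function.Injective (fun u : A => (⟨(u : F) ^ p, hpow u u.2⟩ : A)) := fun a b e =>
    Subtype.ext (frobenius_inj F p (congrArg Subtype.val e))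
  obtain ⟨u, hu⟩ := Finite.injective_iff_surjective.1 hinj ⟨t ^ p, ht⟩
  rw [← frobenius_inj F p (congrArg Subtype.val hu)]
  exact u.2

/-- Outside type B₂ one subfield indexes all root elements. -/
theorem one_field [Fintype F] (p : ℕ) [hp : Fact p.Prime] [CharP F p] (hC : P.ckComm = true) {lng : ℕ → Bool}
    {il is' : ℕ} (hcls : ckCls P lng il is' = true) (hck : ckMul P (qOf p) lng = true) :
    ∃ R : Set F, (∀ r < P.nroots, parA h H r = R) ∧ ∀ t ∈ R, ∀ u ∈ R, t * u ∈ R := by
  classical
  set T : Bool → Set F := fun b => if b then parA h H (P.sim il) else parA h H (P.sim is')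
  have hT : ∀ r < P.nroots, parA h H r = T (lng r) := classes h hone hcls
  simp only [ckCls, Bool.and_eq_true, Nat.blt_eq] at hcls
  obtain ⟨⟨⟨⟨hil, his⟩, -⟩, -⟩, -⟩ := hcls
  simp only [ckMul, Bool.and_eq_true] at hck
  obtain ⟨hmul, hlink⟩ := hck
  have hR : ∀ t ∈ T true, ∀ u ∈ T true, t * u ∈ T true := fun t ht u hu => prod_rule h p hC hT hmul ht hu
  refine ⟨T true, fun r hr => ?_, hR⟩
  rw [hT r hr]
  cases hlr : lng r
  swap
  · rfl
  simp only [ckLink, Bool.or_eq_true, Bool.and_eq_true, List.all_eq_true, List.any_eq_true, Pk.mem_allRoots,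
    Bool.not_eq_true', decide_eq_true_eq, nbeq, decide_eq_false_iff_not] at hlink
  rcases hlink with hall | ⟨⟨l, hln, hl, s, hsn, hs, hpair⟩, hlink⟩
  · rw [hall r hr] at hlr; exact Bool.noConfusion hlr
  have h1 : ∀ b, (1 : F) ∈ T b := fun b => by
    cases b
    · exact hone _ (h.sim_lt his)
    · exact hone _ (h.sim_lt hil)
  have htorus : ∀ l s : ℕ, l < P.nroots → s < P.nroots → ∀ t : F, t ≠ 0 → t ∈ T (lng l) → t⁻¹ ∈ T (lng (P.ng l)) →
      t ^ P.pair l s ∈ T (lng s) := by
    intro l s hln hsn t ht0 ht hti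
    rw [← hT l hln] at ht
    rw [← hT _ (Ok.ng_lt hln)] at hti
    have hnt : ∀ u : F, h.xG l u ∈ H → h.xG (P.ng l) u⁻¹ ∈ H → h.nt l u ∈ H := fun u h1 h2 =>
      mul_mem (mul_mem h1 (by rw [← h.xG_inv]; exact inv_mem h2)) h1
    have hhH : h.ht l t ∈ H := by
      refine mul_mem (hnt t ht hti) ?_
      rw [h.nt_neg]
      exact inv_mem (hnt 1 (hone l hln) (by rw [inv_one]; exact hone _ (Ok.ng_lt hln)))
    rw [← hT s hsn]
    show _ ∈ H
    have e := h.dG_xG (h.isChar_pair ht0 (r := l)) hsn (1 : F)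
    rw [mul_one, ← h.ht_eq hln ht0] at e
    rw [← e]
    exact mul_mem (mul_mem hhH (hone s hsn)) (inv_mem hhH)
  have hng : ∀ l < P.nroots, T (lng (P.ng l)) = T (lng l) := by
    intro l hl
    rw [← hT l hl, ← hT _ (Ok.ng_lt hl)]
    refine h.root_induction (Q := fun l => parA h H (P.ng l) = parA h H l) (fun i hi => ?_)
      (fun i hi x hx hQ => ?_) l hl
    · rw [← h.w_sim hi, parA_w h hone hi (h.sim_lt hi)]
    · rw [← h.w_ng hi hx, parA_w h hone hi (Ok.ng_lt hx), parA_w h hone hi hx, hQ]
  have hRS : T true ⊆ T false := by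
    intro t ht
    by_cases h0 : t = 0
    · subst h0; exact parA_zero h _
    have e := htorus l s hln hsn t h0 (hl.symm ▸ ht)
      (by rw [hng l hln, hl]; exact inv_mem_of_mul (h1 true) hR ht)
    rwa [hpair, zpow_one, hs] at e
  refine (Set.Subset.antisymm hRS fun t ht => ?_).symm
  rcases hlink with hprod | ⟨⟨hq0, hSS⟩, s', hs'n, hs', l', hl'n, hl', hpair'⟩
  · simpa using prod_rule h p hC hT hprod ht (h1 false)
  · have hS : ∀ t ∈ T false, ∀ u ∈ T false, t * u ∈ T false := fun t ht u hu => prod_rule h p hC hT hSS ht hu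
    have hqp : qOf p = p := by
      unfold qOf at hq0 ⊢
      split_ifs at hq0 ⊢ with a b <;> first | omega | simp_all
    by_cases h0 : t = 0
    · subst h0; exact parA_zero h _
    have e := htorus s' l' hs'n hl'n t h0 (hs'.symm ▸ ht)
      (by rw [hng s' hs'n, hs']; exact inv_mem_of_mul (h1 false) hS ht)
    rw [hpair', hqp, zpow_natCast, hl'] at e
    exact root_mem p hR e

end Base

end BGL

end Cfsg.Agent.Chev
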