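/-
Type B₂, where squares enter the commutator formula.
-/
import Cfsg.Agent.Lib.Chev.BGL.Field
import Cfsg.Agent.Lib.Chev.Table

set_option autoImplicit false
set_option linter.unusedSectionVars false

namespace Cfsg.Agent.Chev

open Cfsg.Lie

namespace BGL

variable {F : Type*} [Field F] {H : Subgroup (GL chevB2.Idx F)}

local notation "x" => Ok.xG B2.ok

theorem b2_facts : posL B2.pk = [4, 5, 6, 7] ∧ B2.pk.nroots = 8 ∧ B2.pk.rank = 2 ∧
    B2.pk.sim 0 = 5 ∧ B2.pk.sim 1 = 4 ∧ B2.pk.w 0 6 = 6 ∧ B2.pk.w 0 7 = 4 ∧ B2.pk.w 1 6 = 5 ∧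
    B2.pk.w 1 7 = 7 ∧ B2.pk.ht 4 = 1 ∧ B2.pk.ht 5 = 1 ∧ B2.pk.ht 6 = 2 ∧ B2.pk.ht 7 = 3 ∧
    B2.pk.cterms 5 4 = [(6, -1, 1, 1), (7, -1, 2, 1)] ∧ B2.pk.cterms 5 6 = [(7, 2, 1, 1)] ∧
    B2.pk.cterms 6 4 = [] ∧ B2.pk.cterms 7 4 = [] ∧ B2.pk.cterms 7 5 = [] ∧ B2.pk.cterms 7 6 = [] ∧
    ckCls B2.pk (fun r => r == 4 || r == 7 || r == B2.pk.ng 4 || r == B2.pk.ng 7) 1 0 = true := by
  decide +kernel

theorem b2_comm (hC : B2.pk.ckComm = true) (t u : F) :
    x 4 u * x 5 t = x 5 t * x 4 u * (x 6 (t * u) * x 7 (-(t ^ 2 * u))) := by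
  have e := (B2.ok).comm_xG hC (r := 5) (s := 4) (by decide) (by decide) (by decide) (by decide +kernel) t u
  simpa [Pk.cword, b2_facts.2.2.2.2.2.2.2.2.2.2.2.2.2.1] using e

theorem b2_commute (hC : B2.pk.ckComm = true) {r s : ℕ}
    (hrs : (r = 7 ∧ (s = 4 ∨ s = 5 ∨ s = 6)) ∨ (r = 6 ∧ s = 4)) (t u : F) : Commute (x r t) (x s u) := by
  have hr : r < 8 := by omega
  have hs : s < 8 := by omega
  have hne : s ≠ r := by omega
  have hng : s ≠ B2.pk.ng r := by rcases hrs with ⟨rfl, rfl | rfl | rfl⟩ | ⟨rfl, rfl⟩ <;> decide +kernel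
  have hc : B2.pk.cterms r s = [] := by rcases hrs with ⟨rfl, rfl | rfl | rfl⟩ | ⟨rfl, rfl⟩ <;> decide +kernel
  have e := (B2.ok).comm_xG hC hr hs hne hng t u
  simp only [Pk.cword, hc, List.map_nil, List.prod_nil, mul_one] at e
  exact e.symm

section Two

variable [CharP F 2] (hC : B2.pk.ckComm = true) (hone : ∀ r < B2.pk.nroots, (1 : F) ∈ parA B2.ok H r)
include hC hone

theorem b2_w6 {u v : F} (hm : x 6 u * x 7 v ∈ H) :
    x 6 u * x 4 v ∈ H ∧ x 5 u * x 7 v ∈ H := by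
  have hη : ∀ i r, ((B2.pk.eta i r : ℤ) : F) = 1 := fun i r => by
    rcases (B2.ok).eta_cases i r with e | e <;> simp [e, CharTwo.neg_eq]
  have h0 : (0 : ℕ) < B2.pk.rank := by decide
  have h1 : (1 : ℕ) < B2.pk.rank := by decide
  constructor
  · have := mul_mem (mul_mem (nG_mem_H B2.ok hone h0) hm) (inv_mem (nG_mem_H B2.ok hone h0))
    rw [← MulAut.conj_apply, map_mul, MulAut.conj_apply, MulAut.conj_apply, (B2.ok).nG_xG h0 (by decide),
      (B2.ok).nG_xG h0 (by decide), hη, hη, one_mul, one_mul, b2_facts.2.2.2.2.2.1, b2_facts.2.2.2.2.2.2.1] at this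
    exact this
  · have := mul_mem (mul_mem (nG_mem_H B2.ok hone h1) hm) (inv_mem (nG_mem_H B2.ok hone h1))
    rw [← MulAut.conj_apply, map_mul, MulAut.conj_apply, MulAut.conj_apply, (B2.ok).nG_xG h1 (by decide),
      (B2.ok).nG_xG h1 (by decide), hη, hη, one_mul, one_mul, b2_facts.2.2.2.2.2.2.2.1,
      b2_facts.2.2.2.2.2.2.2.2.1] at this
    exact this

/-- The diagonal of the second coordinates. -/
theorem b2_diag {u v : F} (hm : x 6 u * x 7 v ∈ H) : x 6 v * x 7 v ∈ H := by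
  have hq := (b2_w6 hC hone hm).1
  have h5 : x 5 (1 : F) ∈ H := hone 5 (by decide)
  have h65 : Commute (x 6 u) (x 5 (1 : F)) := by
    have e := (B2.ok).comm_xG hC (r := 5) (s := 6) (by decide) (by decide) (by decide) (by decide +kernel) (1 : F) u
    simp [Pk.cword, b2_facts.2.2.2.2.2.2.2.2.2.2.2.2.2.2.1, CharTwo.two_eq_zero, (B2.ok).xG_zero] at e
    exact e
  have key : x 6 u * x 4 v * x 5 1 = x 5 1 * (x 6 u * x 4 v) * (x 6 v * x 7 v) := by
    rw [mul_assoc (x 6 u), b2_comm hC, one_mul, one_pow, one_mul, CharTwo.neg_eq, ← mul_assoc (x 6 u),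
      ← mul_assoc (x 6 u), h65.eq, mul_assoc (x 5 1) (x 6 u)]
  have := mul_mem (inv_mem (mul_mem h5 hq)) (mul_mem hq h5)
  rwa [key, inv_mul_cancel_left] at this

/-- The commutator of two diagonal elements. -/
theorem b2_two {a b : F} (ha : x 6 a * x 7 a ∈ H) (hb : x 6 b * x 7 b ∈ H) :
    x 6 (a * b) * x 7 (a ^ 2 * b) ∈ H := by
  have qa := (b2_w6 hC hone ha).2
  have qb := (b2_w6 hC hone hb).1
  set Z := x 6 (a * b) * x 7 (a ^ 2 * b) with hZ
  have c7 : ∀ (s : ℕ), s = 4 ∨ s = 5 ∨ s = 6 → ∀ w : F, Commute (x 7 a) (x s w) := fun s hs w =>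
    b2_commute hC (Or.inl ⟨rfl, hs⟩) a w
  have cZ7 : Commute Z (x 7 a) := by
    refine ((c7 6 (by simp) _).symm).mul_left ?_
    show _ * _ = _ * _
    rw [(B2.ok).xG_add, (B2.ok).xG_add, add_comm]
  have c56 : Commute (x 6 b) (x 5 a) := by
    have e := (B2.ok).comm_xG hC (r := 5) (s := 6) (by decide) (by decide) (by decide) (by decide +kernel) a b
    simp [Pk.cword, b2_facts.2.2.2.2.2.2.2.2.2.2.2.2.2.2.1, CharTwo.two_eq_zero, (B2.ok).xG_zero] at e
    exact e
  have key : x 6 b * x 4 b * (x 5 a * x 7 a) = x 5 a * x 7 a * (x 6 b * x 4 b) * Z := by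
    have e1 : x 4 b * x 5 a = x 5 a * x 4 b * Z := by rw [b2_comm hC, CharTwo.neg_eq]
    calc x 6 b * x 4 b * (x 5 a * x 7 a) = x 6 b * (x 4 b * x 5 a) * x 7 a := by group
      _ = (x 6 b * x 5 a) * x 4 b * (Z * x 7 a) := by rw [e1]; group
      _ = x 5 a * x 6 b * (x 4 b * x 7 a) * Z := by rw [c56.eq, cZ7.eq]; group
      _ = x 5 a * (x 6 b * x 7 a) * x 4 b * Z := by rw [(c7 4 (by simp) b).symm.eq]; group
      _ = _ := by rw [(c7 6 (by simp) b).symm.eq]; group
  have := mul_mem (inv_mem (mul_mem qa qb)) (mul_mem qb qa)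
  rwa [key, inv_mul_cancel_left] at this

theorem b2_cross {a b : F} (ha : x 6 a * x 7 a ∈ H) (hb : x 6 b * x 7 b ∈ H) :
    x 6 (a * b + a ^ 2 * b) ∈ H := by
  have h1 := b2_two hC hone ha hb
  have h2 := b2_diag hC hone h1
  have := mul_mem h1 (inv_mem h2)
  rw [mul_inv_rev, mul_assoc, mul_inv_cancel_left, (B2.ok).xG_inv, (B2.ok).xG_add, CharTwo.neg_eq] at this
  exact this

end Two

/-- In type B₂ one subfield indexes all root elements. -/
theorem b2_field [Fintype F] (p : ℕ) [hp : Fact p.Prime] [CharP F p] (hC : B2.pk.ckComm = true)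
    (hone : ∀ r < B2.pk.nroots, (1 : F) ∈ parA B2.ok H r) :
    ∃ R : Set F, (∀ r < B2.pk.nroots, parA B2.ok H r = R) ∧ ∀ t ∈ R, ∀ u ∈ R, t * u ∈ R := by
  classical
  obtain ⟨-, -, -, s0, s1, w06, w07, w16, w17, -, -, -, -, c54, c56, -, -, -, -, hcls⟩ := b2_facts
  have hA := classes B2.ok hone hcls
  rw [s0, s1] at hA
  have hL7 : parA B2.ok H 7 = parA B2.ok H 4 := by simpa using hA 7 (by decide)
  have hS6 : parA B2.ok H 6 = parA B2.ok H 5 := by
    rw [hA 6 (by decide), if_neg (by decide +kernel)]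
  suffices hV : parA B2.ok H 4 = parA B2.ok H 5 ∧
      ∀ t ∈ parA B2.ok H 5, ∀ u ∈ parA B2.ok H 5, t * u ∈ parA B2.ok H 5 by
    refine ⟨_, fun r hr => ?_, hV.2⟩
    rw [hA r hr, hV.1, ite_self]
  have hW : ∀ t ∈ parA B2.ok H 5, ∀ u ∈ parA B2.ok H 4, x 6 (t * u) * x 7 (-(t ^ 2 * u)) ∈ H := by
    intro t ht u hu
    have e := b2_comm hC t u
    rw [← inv_mul_eq_iff_eq_mul] at e
    rw [← e]
    exact mul_mem (inv_mem (mul_mem ht hu)) (mul_mem hu ht)
  have h15 : (1 : F) ∈ parA B2.ok H 5 := hone 5 (by decide)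
  have h14 : (1 : F) ∈ parA B2.ok H 4 := hone 4 (by decide)
  rcases eq_or_ne p 2 with hp2 | hp2
  · subst hp2
    set V : Set F := {v | x 6 v * x 7 v ∈ H}
    have hd : ∀ {u v : F}, x 6 u * x 7 v ∈ H → v ∈ V := fun hm => b2_diag hC hone hm
    have h1V : (1 : F) ∈ V := show x 6 (1 : F) * x 7 1 ∈ H from mul_mem (hone 6 (by decide)) (hone 7 (by decide))
    have hab : ∀ a ∈ V, ∀ b ∈ V, a ^ 2 * b ∈ V := fun a ha b hb => hd (b2_two hC hone ha hb)
    have hsq : ∀ a ∈ V, a ^ 2 ∈ V := fun a ha => by simpa using hab a ha 1 h1V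
    have hmul : ∀ a ∈ V, ∀ b ∈ V, a * b ∈ V := by
      intro a ha b hb
      have hinj : Function.Injective (fun u : V => (⟨(u : F) ^ 2, hsq u u.2⟩ : V)) := fun a b e =>
        Subtype.ext (frobenius_inj F 2 (congrArg Subtype.val e))
      obtain ⟨c, hc⟩ := Finite.injective_iff_surjective.1 hinj ⟨a, ha⟩
      have : (c : F) ^ 2 = a := congrArg Subtype.val hc
      rw [← this]
      exact hab _ c.2 b hb
    have hVS : V ⊆ parA B2.ok H 5 := by
      intro w hw
      by_cases hex : ∃ a ∈ V, a + a ^ 2 ≠ 0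
      · obtain ⟨a, ha, hne⟩ := hex
        have hsum : a + a ^ 2 ∈ V := by
          have m := mul_mem (show x 6 a * x 7 a ∈ H from ha)
            (show x 6 (a ^ 2) * x 7 (a ^ 2) ∈ H from hsq a ha)
          have e : x 6 a * x 7 a * (x 6 (a ^ 2) * x 7 (a ^ 2)) = x 6 (a + a ^ 2) * x 7 (a + a ^ 2) := by
            rw [mul_assoc, ← mul_assoc (x 7 a), (b2_commute hC (Or.inl ⟨rfl, Or.inr (Or.inr rfl)⟩) a (a ^ 2)).eq,
              mul_assoc, (B2.ok).xG_add, ← mul_assoc, (B2.ok).xG_add]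
          rwa [e] at m
        have hb : (a + a ^ 2)⁻¹ * w ∈ V := hmul _ (inv_mem_of_mul h1V hmul hsum) _ hw
        have := b2_cross hC hone ha hb
        rw [show a * ((a + a ^ 2)⁻¹ * w) + a ^ 2 * ((a + a ^ 2)⁻¹ * w) =
          (a + a ^ 2) * (a + a ^ 2)⁻¹ * w by ring, mul_inv_cancel₀ hne, one_mul] at this
        rw [← hS6]
        exact this
      · push_neg at hex
        have e := hex w hw
        rcases mul_eq_zero.1 (show w * (1 + w) = 0 by linear_combination e) with e | e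
        · subst e; exact parA_zero _ _
        · rw [eq_neg_of_add_eq_zero_right e]
          exact parA_neg _ h15
    have hSV : parA B2.ok H 5 ⊆ V := fun t ht => by
      have := hd (hW t ht 1 h14)
      rw [mul_one, CharTwo.neg_eq] at this
      exact root_mem 2 hmul this
    have hSeq : parA B2.ok H 5 = V := Set.Subset.antisymm hSV hVS
    refine ⟨?_, hSeq ▸ hmul⟩
    rw [hSeq]
    refine Set.Subset.antisymm (fun u hu => ?_) fun v hv => ?_
    · have := hd (hW 1 h15 u hu)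
      simpa [CharTwo.neg_eq] using this
    · rw [← hL7]
      have h6 : x 6 v ∈ H := by rw [← hS6] at hVS; exact hVS hv
      simpa [parA] using mul_mem (inv_mem h6) (show x 6 v * x 7 v ∈ H from hv)
  · have h2 : ((2 : ℤ) : F) ≠ 0 := by
      intro e
      rw [CharP.intCast_eq_zero_iff F p] at e
      exact hp2 ((Nat.prime_dvd_prime_iff_eq hp.out Nat.prime_two).1 (by exact_mod_cast e))
    have hLS : parA B2.ok H 4 ⊆ parA B2.ok H 5 := fun u hu => by
      have hw := mul_mem (hW 1 h15 u hu) (inv_mem (hW (-1) (parA_neg B2.ok h15) u hu))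
      rw [one_mul, one_pow, one_mul, neg_one_mul, neg_one_sq, one_mul, mul_inv_rev, mul_assoc,
        mul_inv_cancel_left, (B2.ok).xG_inv, (B2.ok).xG_add, neg_neg] at hw
      rw [← hS6]
      refine parA_cancel B2.ok p h2 ?_
      rw [show ((2 : ℤ) : F) * u = u + u by push_cast; ring]
      exact hw
    have hSS : ∀ t ∈ parA B2.ok H 5, ∀ u ∈ parA B2.ok H 5, t * u ∈ parA B2.ok H 4 := fun t ht u hu => by
      rw [← hS6] at hu
      have e := comm_mem B2.ok hC (r := 5) (s := 6) (by decide) (by decide) (by decide) (by decide +kernel) ht hu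
      simp [c56] at e
      rw [← hL7]
      refine parA_cancel B2.ok p (z := -2) (by simpa using h2) ?_
      show _ ∈ H
      convert e using 2
      push_cast; ring
    refine ⟨Set.Subset.antisymm hLS fun t ht => ?_, fun t ht u hu => hLS (hSS t ht u hu)⟩
    simpa using hSS t ht 1 h15

/-- The exceptional root of type B₂ in characteristic two. -/
theorem b2_exc [CharP F 2] (hC : B2.pk.ckComm = true) {σ : F →+* F} (hT : Tight B2.ok σ H) {u : GL chevB2.Idx F}
    (huH : u ∈ H) (hu : u ∈ (B2.ok).uFil (F := F) (B2.pk.ht 6)) :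
    σ (tval B2.ok 6 u) = tval B2.ok 6 u := by
  have hone : ∀ r < B2.pk.nroots, (1 : F) ∈ parA B2.ok H r := fun r hr => one_mem' B2.ok hT hr
  obtain ⟨hpos, -, -, -, -, -, -, -, -, h4, h5, h6, -, -⟩ := b2_facts
  obtain ⟨t, ht, rfl⟩ := coords B2.ok hC hu
  rw [coord_eq B2.ok ht (by decide +kernel) rfl]
  have e4 : t 4 = 0 := ht 4 (by decide +kernel) (by rw [h4, h6]; norm_num)
  have e5 : t 5 = 0 := ht 5 (by decide +kernel) (by rw [h5, h6]; norm_num)
  simp [hpos, e4, e5, (B2.ok).xG_zero] at huH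
  have hd := b2_diag hC hone huH
  have hfix : ∀ {w : F}, x 6 w ∈ H → σ w = w := fun hw => hT.tight 6 (by decide) _ hw
  have hv : σ (t 7) = t 7 := by
    have h1 := hfix (b2_cross hC hone hd (mul_mem (hone 6 (by decide)) (hone 7 (by decide))))
    have h2 := hfix (b2_cross hC hone hd hd)
    simp only [mul_one] at h1
    by_cases e : t 7 + t 7 ^ 2 = 0
    · rcases mul_eq_zero.1 (show t 7 * (t 7 + 1) = 0 by linear_combination e) with e | e
      · rw [e, map_zero]
      · rw [eq_neg_of_add_eq_zero_left e, map_neg, map_one]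
    have e2 : t 7 * t 7 + t 7 ^ 2 * t 7 = t 7 * (t 7 + t 7 ^ 2) := by ring
    rw [e2, map_mul, h1] at h2
    exact mul_right_cancel₀ e h2
  have hw := mul_mem huH (inv_mem hd)
  rw [mul_inv_rev, mul_assoc, mul_inv_cancel_left, (B2.ok).xG_inv, (B2.ok).xG_add] at hw
  have := hfix hw
  rw [map_add, map_neg, hv] at this
  exact add_right_cancel this

end BGL

end Cfsg.Agent.Chev
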