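/-
Rational representatives of fixed parabolic cosets, the rational local subgroups.
-/
import Cfsg.Agent.Lib.Chev.BGL.Step
import Cfsg.Agent.Lib.Chev.BorelTits
import Cfsg.Agent.Lib.Chev.RootCentralizer

set_option autoImplicit false
set_option linter.unusedSectionVars false

namespace Cfsg.Agent.Chev

open Cfsg.Lie

namespace BGL

/-- Every simple root is a difference of roots outside each maximal parabolic. -/
def ckOut (P : Pk) : Bool :=
  (List.range P.rank).all fun j => (List.range P.rank).all fun m => Nat.beq j m ||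
    P.allRoots.any fun r => decide (0 < P.rv r m) && Nat.blt 0 (P.len (P.sim j) r)

variable {D : ChevalleyDatum} {P : Pk} {F : Type*} [Field F] (h : Ok D P)
include h

theorem A_sum {x i : ℕ} (hx : x < P.nroots) (hi : i < P.rank) :
    P.A i x = ∑ k ∈ Finset.range P.rank, P.rv x k * P.A i (P.sim k) := h.A_eq_sum hx hi

/-- The Weyl group acts linearly. -/
theorem rv_wl : ∀ l, WordOk P l → ∀ r < P.nroots, ∀ m < P.rank,
    P.rv (wl P l r) m = ∑ j ∈ Finset.range P.rank, P.rv r j * P.rv (wl P l (P.sim j)) m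
  | [], _, r, _, m, hm => by
    rw [Finset.sum_eq_single m]
    · simp [wl, h.rv_sim hm hm]
    · intro j hj hne
      simp [wl, h.rv_sim (Finset.mem_range.1 hj) hm, hne]
    · intro hn; exact absurd (Finset.mem_range.2 hm) hn
  | i :: l, hl, r, hr, m, hm => by
    have hi := hl.head
    have e : ∀ x < P.nroots, P.rv (P.w i x) m =
        P.rv x m - if m = i then ∑ k ∈ Finset.range P.rank, P.rv x k * P.A i (P.sim k) else 0 := by
      intro x hx
      rw [((h.w_spec hi hx).2.2.2.2.2.1 m hm).1]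
      split_ifs with e
      · rw [A_sum h hx hi]
      · rfl
    have hlt : ∀ x < P.nroots, wl P l x < P.nroots := fun x hx => h.wl_lt l hl.tail x hx
    show P.rv (P.w i (wl P l r)) m = ∑ j ∈ Finset.range P.rank, P.rv r j * P.rv (P.w i (wl P l (P.sim j))) m
    rw [e _ (hlt r hr), rv_wl l hl.tail r hr m hm]
    have e2 : ∀ j ∈ Finset.range P.rank, P.rv r j * P.rv (P.w i (wl P l (P.sim j))) m =
        P.rv r j * P.rv (wl P l (P.sim j)) m - P.rv r j *
          if m = i then ∑ k ∈ Finset.range P.rank, P.rv (wl P l (P.sim j)) k * P.A i (P.sim k) else 0 := by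
      intro j hj
      rw [e _ (hlt _ (h.sim_lt (Finset.mem_range.1 hj))), mul_sub]
    rw [Finset.sum_congr rfl e2, Finset.sum_sub_distrib]
    congr 1
    split_ifs with hm'
    · simp only [Finset.mul_sum]
      rw [Finset.sum_comm]
      refine Finset.sum_congr rfl fun k hk => ?_
      rw [rv_wl l hl.tail r hr k (Finset.mem_range.1 hk), Finset.sum_mul]
      refine Finset.sum_congr rfl fun j _ => ?_
      ring
    · simp

/-- A word fixing the roots outside a proper parabolic is trivial. -/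
theorem wl_eq_of_out (hck : ckOut P = true) (J : Set ℕ) (hJ : ∃ m, m < P.rank ∧ m ∉ J) {l : List ℕ}
    (hl : WordOk P l) (hfix : ∀ r < P.nroots, (∃ m, m < P.rank ∧ m ∉ J ∧ 0 < P.rv r m) → wl P l r = r) :
    ∀ r < P.nroots, wl P l r = r := by
  obtain ⟨m, hm, hmJ⟩ := hJ
  simp only [ckOut, List.all_eq_true, Bool.or_eq_true, Bool.and_eq_true, List.any_eq_true, List.mem_range,
    Pk.mem_allRoots, nbeq, decide_eq_true_eq, Nat.blt_eq] at hck
  have hsim : ∀ j < P.rank, wl P l (P.sim j) = P.sim j := by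
    intro j hj
    by_cases e : j = m
    · subst e
      exact hfix _ (h.sim_lt hj) ⟨j, hj, hmJ, by rw [h.rv_sim hj hj, if_pos rfl]; exact one_pos⟩
    obtain ⟨r, hr, hrm, hlen⟩ := (hck j hj m hm).resolve_left e
    have hs := h.sim_lt hj
    have hu := h.tgt_lt hs hr hlen
    have hum : 0 < P.rv (P.tgt (P.sim j) r 0) m := by
      rw [h.rv_additive hs hr hlen hm, h.rv_sim hj hm, if_neg e]
      simpa using hrm
    have e1 := hfix r hr ⟨m, hm, hmJ, hrm⟩
    have e2 := hfix _ hu ⟨m, hm, hmJ, hum⟩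
    refine h.rv_inj (h.wl_lt l hl _ hs) hs fun k hk => ?_
    have a1 := rv_wl h l hl _ hu k hk
    have a2 := rv_wl h l hl _ hr k hk
    rw [e2] at a1
    rw [e1] at a2
    have a3 : ∑ x ∈ Finset.range P.rank, P.rv (P.tgt (P.sim j) r 0) x * P.rv (wl P l (P.sim x)) k =
        P.rv (wl P l (P.sim j)) k + ∑ x ∈ Finset.range P.rank, P.rv r x * P.rv (wl P l (P.sim x)) k := by
      have : ∀ x ∈ Finset.range P.rank, P.rv (P.tgt (P.sim j) r 0) x * P.rv (wl P l (P.sim x)) k =
          (if x = j then P.rv (wl P l (P.sim x)) k else 0) + P.rv r x * P.rv (wl P l (P.sim x)) k := by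
        intro x hx
        rw [h.rv_additive hs hr hlen (Finset.mem_range.1 hx), h.rv_sim hj (Finset.mem_range.1 hx)]
        by_cases e' : j = x
        · subst e'; simp; ring
        · simp [e', Ne.symm e']
      rw [Finset.sum_congr rfl this, Finset.sum_add_distrib, Finset.sum_ite_eq' (Finset.range P.rank) j
        (fun x => P.rv (wl P l (P.sim x)) k), if_pos (Finset.mem_range.2 hj)]
    rw [a3, ← a2, h.rv_additive hs hr hlen hk] at a1
    push_cast at a1
    linarith
  intro r hr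
  refine h.rv_inj (h.wl_lt l hl r hr) hr fun k hk => ?_
  rw [rv_wl h l hl r hr k hk, Finset.sum_eq_single k]
  · rw [hsim k hk, h.rv_sim hk hk, if_pos rfl, mul_one]
  · intro j hj hne
    rw [hsim j (Finset.mem_range.1 hj), h.rv_sim (Finset.mem_range.1 hj) hk, if_neg hne, mul_zero]
  · intro hn; exact absurd (Finset.mem_range.2 hk) hn

/-- Conjugation by a Borel element on the filtration. -/
theorem borel_conj_coord (hC : P.ckComm = true) {b : GL D.Idx F} (hb : b ∈ D.borelSubgroup F) {r : ℕ}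
    (hr : P.isPos r = true) :
    ∃ c : F, c ≠ 0 ∧ ∀ t : F, b * h.xG r t * b⁻¹ * (h.xG r (c * t))⁻¹ ∈ h.uFil (F := F) (P.ht r + 1) := by
  obtain ⟨v, hv, d, hd, rfl⟩ := h.mem_borel hb
  obtain ⟨c, rfl⟩ := h.mem_diagonal_iff.1 hd
  have hrn := (P.isPos_iff.1 hr).2
  refine ⟨hchar P c r, (h.isChar_hchar c).ne r hrn, fun t => ?_⟩
  have e : v * h.hHom c * h.xG r t * (v * h.hHom c)⁻¹ = v * h.xG r (hchar P c r * t) * v⁻¹ := by
    rw [← h.hHom_xG c hrn t]
    group
  rw [e]
  have hk := inv_mem (h.uFil_comm (F := F) hC (P.ht r) (Subgroup.commutator_mem_commutator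
    (g₁ := h.xG r (hchar P c r * t)) (g₂ := v) (mem_uFil_xG h hr le_rfl _) hv))
  rw [commutatorElement_inv, commutatorElement_def] at hk
  exact hk

/-- An element centralising the rational root elements outside a proper parabolic lies in the Borel subgroup. -/
theorem mem_borel_of_cent (hC : P.ckComm = true) (hck : ckOut P = true) (J : Set ℕ)
    (hJ : ∃ m, m < P.rank ∧ m ∉ J) {y : GL D.Idx F} (hy : y ∈ D.group F)
    (hcom : ∀ r, P.isPos r = true → (∃ m, m < P.rank ∧ m ∉ J ∧ 0 < P.rv r m) →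
      y * h.xG r (1 : F) = h.xG r (1 : F) * y) : y ∈ D.borelSubgroup F := by
  classical
  obtain ⟨b, hb, l, hl, u, hu, rfl⟩ := h.bruhat_exists hC hy
  have huP := h.negS_le_pos l hu
  set N : ℕ := (Finset.range P.nroots).sup fun r => (P.ht r).toNat
  let InS : ℕ → Prop := fun r => ∃ m, m < P.rank ∧ m ∉ J ∧ 0 < P.rv r m
  have main : ∀ (k : ℕ) (m : ℤ), (N : ℤ) < m + k → ∀ r, P.isPos r = true → InS r → m ≤ P.ht r →
      wl P l r = r := by
    intro k
    induction k with
    | zero =>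
      intro m hm r hr _ hle
      have h2 : (P.ht r).toNat ≤ N :=
        Finset.le_sup (f := fun r => (P.ht r).toNat) (Finset.mem_range.2 (P.isPos_iff.1 hr).2)
      push_cast at hm
      omega
    | succ k ih =>
      intro m hm r hr hS hle
      by_cases hlt : m + 1 ≤ P.ht r
      · exact ih (m + 1) (by push_cast at hm ⊢; omega) r hr hS hlt
      have hrm : P.ht r = m := by omega
      have hup := ih (m + 1) (by push_cast at hm ⊢; omega)
      have hrn := (P.isPos_iff.1 hr).2
      -- the conjugate by the unipotent part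
      set A : Subgroup (GL D.Idx F) :=
        h.genR fun x => P.isPos x = true ∧ P.ht r + 1 ≤ P.ht x ∧ InS x
      have hAle : A ≤ h.uFil (F := F) (P.ht r + 1) := h.genR_mono fun x hx => ⟨hx.1, hx.2.1⟩
      have hk1 : u * h.xG r (1 : F) * u⁻¹ * (h.xG r (1 : F))⁻¹ ∈ A := by
        obtain ⟨mm, hmm, hmJ, hrmm⟩ := hS
        set T : ℕ → Prop := fun x => P.isPos x = true ∧ 0 < P.rv x mm
        have hTcl : ClosedP P T := ⟨fun x hx => hx.1, fun a a' ha ha' k hk => by
          have han := (P.isPos_iff.1 ha.1).2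
          have han' := (P.isPos_iff.1 ha'.1).2
          refine ⟨(h.pos_tgt ha.1 ha'.1 hk).1, ?_⟩
          rw [h.rv_additive han han' hk hmm]
          nlinarith [ha.2, ha'.2]⟩
        have hUT : D.posUnipotent F ≤ Subgroup.normalizer (h.genR (F := F) T : Set (GL D.Idx F)) := by
          refine h.posUnipotent_le fun x hx t => h.genR_normalizer hC (fun z hz => (P.isPos_iff.1 hz.1).2)
            (P.isPos_iff.1 hx).2 (fun z hz => ?_) t
          by_cases hzx : z = x
          · exact Or.inl hzx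
          have hxn := (P.isPos_iff.1 hx).2
          have hzn := (P.isPos_iff.1 hz.1).2
          have hxm := (h.rv_sign hxn hmm).1 hx
          refine Or.inr ⟨?_, fun c hc => ?_⟩
          · intro e
            have := hz.1
            rw [e, h.ng_pos_iff hxn, hx] at this
            simp at this
          · refine h.cterms_ind (T := T) hxn hzn ?_ ?_ ?_ ?_ c hc
            · intro k hk
              refine ⟨(h.pos_tgt hx hz.1 hk).1, ?_⟩
              rw [h.rv_additive hxn hzn hk hmm]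
              nlinarith [hz.2]
            · intro k hk
              refine ⟨(h.pos_tgt hz.1 hx hk).1, ?_⟩
              rw [h.rv_additive hzn hxn hk hmm]
              nlinarith [hz.2]
            · intro a ha hTa k hk
              refine ⟨(h.pos_tgt hTa.1 hz.1 hk).1, ?_⟩
              rw [h.rv_additive ha hzn hk hmm]
              nlinarith [hz.2, hTa.2]
            · intro a ha hTa k hk
              refine ⟨(h.pos_tgt hTa.1 hx hk).1, ?_⟩
              rw [h.rv_additive ha hxn hk hmm]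
              nlinarith [hTa.2]
        have hxT : h.xG r (1 : F) ∈ h.genR (F := F) T := h.xG_mem_genR ⟨hr, hrmm⟩ 1
        have h1 : u * h.xG r (1 : F) * u⁻¹ * (h.xG r (1 : F))⁻¹ ∈ h.genR (F := F) T :=
          mul_mem ((Subgroup.mem_normalizer_iff.1 (hUT huP) _).1 hxT) (inv_mem hxT)
        have h2 : u * h.xG r (1 : F) * u⁻¹ * (h.xG r (1 : F))⁻¹ ∈ h.uFil (F := F) (P.ht r + 1) := by
          have hk := inv_mem (h.uFil_comm (F := F) hC (P.ht r) (Subgroup.commutator_mem_commutator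
            (g₁ := h.xG r (1 : F)) (g₂ := u) (mem_uFil_xG h hr le_rfl _) huP))
          rwa [commutatorElement_inv, commutatorElement_def] at hk
        have hFcl : ClosedP P fun x => P.isPos x = true ∧ P.ht r + 1 ≤ P.ht x := by
          refine ⟨fun x hx => hx.1, fun a a' ha ha' k hk => ⟨(h.pos_tgt ha.1 ha'.1 hk).1, ?_⟩⟩
          have := h.ht_pos ha.1
          rw [h.ht_tgt (P.isPos_iff.1 ha.1).2 (P.isPos_iff.1 ha'.1).2 hk]
          nlinarith [ha'.2]
        exact h.genR_mono (fun x hx => ⟨hx.1.1, hx.1.2, mm, hmm, hmJ, hx.2.2⟩)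
          (h.genR_inter hC hFcl hTcl h2 h1)
      have hk2 : h.nW l * (u * h.xG r (1 : F) * u⁻¹ * (h.xG r (1 : F))⁻¹) * (h.nW l)⁻¹ ∈
          h.uFil (F := F) (P.ht r + 1) :=
        h.nW_genR hl (fun x hx => (P.isPos_iff.1 hx.1).2)
          (fun x hx => by rw [hup x hx.1 hx.2.2 (by omega)]; exact ⟨hx.1, hx.2.1⟩) hk1
      obtain ⟨e, he, hx⟩ := h.conj_nW hl (one_mem (D.diagonalSubgroup F)) hrn
      have hx1 : h.nW l * h.xG r (1 : F) * (h.nW l)⁻¹ = h.xG (wl P l r) e := by simpa using hx 1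
      -- the conjugate by the Borel part
      obtain ⟨c, hc, hbr⟩ := borel_conj_coord h hC (inv_mem hb) hr
      have hb1 := hbr 1
      rw [mul_one, inv_inv] at hb1
      have hmain : h.nW l * (u * h.xG r (1 : F) * u⁻¹) * (h.nW l)⁻¹ = b⁻¹ * h.xG r (1 : F) * b := by
        have e0 := hcom r hr hS
        calc h.nW l * (u * h.xG r (1 : F) * u⁻¹) * (h.nW l)⁻¹
            = b⁻¹ * ((b * h.nW l * u) * h.xG r 1) * (b * h.nW l * u)⁻¹ * b := by group
          _ = b⁻¹ * h.xG r 1 * b := by rw [e0]; group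
      set K1 := h.nW l * (u * h.xG r (1 : F) * u⁻¹ * (h.xG r (1 : F))⁻¹) * (h.nW l)⁻¹
      set K2 := b⁻¹ * h.xG r (1 : F) * b * (h.xG r c)⁻¹
      have heq : h.xG (wl P l r) e = K1⁻¹ * K2 * h.xG r c := by
        simp only [K1, K2, ← hmain, ← hx1]
        group
      have hin : h.xG (wl P l r) e ∈ h.uFil (F := F) (P.ht r) := by
        rw [heq]
        exact mul_mem (mul_mem (inv_mem (uFil_mono h (by omega) hk2)) (uFil_mono h (by omega) hb1))
          (mem_uFil_xG h hr le_rfl c)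
      have hwl := h.wl_lt l hl r hrn
      have hwp : P.isPos (wl P l r) = true := by
        by_contra hneg
        have hneg' : P.isPos (wl P l r) = false := by simpa using hneg
        have h1 : h.xG (wl P l r) e ∈ D.borelSubgroup F ⊓ D.negUnipotent F :=
          Subgroup.mem_inf.2 ⟨Subgroup.mem_sup_left (h.uFil_le_pos _ hin), h.xG_mem_neg hwl hneg' e⟩
        rw [h.borel_inf_neg, Subgroup.mem_bot] at h1
        exact he (h.xG_inj_param hwl (h1.trans (h.xG_zero _).symm))
      have hht : P.ht r ≤ P.ht (wl P l r) := by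
        by_contra hlt'
        exact he (Aut.uFil_xG h hC hwp (by omega) hin)
      by_contra hne
      have e1 := congrArg (tval h r) heq
      rw [tval_xG h hr hwp hht, if_neg hne, tval_mul h hr le_rfl (mul_mem (inv_mem (uFil_mono h (by omega) hk2))
        (uFil_mono h (by omega) hb1)) (mem_uFil_xG h hr le_rfl c), tval_xG h hr hr le_rfl, if_pos rfl,
        tval_deep h hr (M := P.ht r + 1) (by omega) (mul_mem (inv_mem hk2) hb1), zero_add] at e1
      exact hc e1.symm
  have hfix : ∀ r < P.nroots, InS r → wl P l r = r := fun r hr hS => by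
    obtain ⟨m, hm, hmJ, hrm⟩ := hS
    have hp := h.pos_of_rv hr hm hrm
    exact main (N + 1) 0 (by push_cast; omega) r hp ⟨m, hm, hmJ, hrm⟩ (h.ht_pos hp).le
  have hall := wl_eq_of_out h hck J hJ hl hfix
  have hd : h.nW (F := F) l ∈ D.diagonalSubgroup F := h.nW_mem_diagonal hl hall
  exact mul_mem (mul_mem hb (Subgroup.mem_sup_right hd)) (Subgroup.mem_sup_left huP)

/-- The weight of a parabolic subgroup. -/
noncomputable def fJ (J : Set ℕ) (i : ℕ) : ℤ := by classical exact if i ∈ J then 0 else 1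

theorem rw_fJ_nonneg (J : Set ℕ) {r : ℕ} (hr : r < P.nroots) (hp : P.isPos r = true) : 0 ≤ rw' P (fJ J) r := by
  classical
  refine Finset.sum_nonneg fun i hi => mul_nonneg ?_ ((h.rv_sign hr (Finset.mem_range.1 hi)).1 hp)
  unfold fJ
  split_ifs <;> omega

theorem rw_fJ_inJ (J : Set ℕ) {r : ℕ} (hr : InJ P J r) : rw' P (fJ J) r = 0 := by
  classical
  refine Finset.sum_eq_zero fun i hi => ?_
  unfold fJ
  split_ifs with e
  · simp
  · rw [hr.2 i (Finset.mem_range.1 hi) e, mul_zero]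

theorem grades_parabolic (J : Set ℕ) {g : GL D.Idx F} (hg : g ∈ D.parabolicSubgroup F J) :
    Grades P (fJ J) 0 (g : Matrix D.Idx D.Idx F) := by
  have hdiag : ∀ d ∈ D.diagonalSubgroup F, Grades P (fJ J) 0 (d : Matrix D.Idx D.Idx F) := by
    intro d hd row col e hne
    obtain ⟨c, rfl⟩ := h.mem_diagonal_iff.1 hd
    rw [h.coe_hHom, dM, Matrix.diagonal_apply_ne _ e] at hne
    exact absurd rfl hne
  rw [h.parabolic_gen, ← Subgroup.closure_eq (D.diagonalSubgroup F), ← Subgroup.closure_union] at hg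
  induction hg using Subgroup.closure_induction'' with
  | one => simpa using grades_one h (fJ J) (0 : ℤ)
  | mem x hx =>
    rcases hx with hx | ⟨r, t, hr, hx⟩
    · exact hdiag x hx
    rw [h.eq_xG_iff.1 hx]
    rcases hr with hr | hr
    · have hp := (h.isPosRoot_iff r).1 hr
      have h0 := rw_fJ_nonneg h J (P.isPos_iff.1 hp).2 hp
      exact grades_xG h _ (P.isPos_iff.1 hp).2 t h0 h0
    · have hr' := (h.inRootSub_iff J r).1 hr
      exact grades_xG h _ hr'.1 t (rw_fJ_inJ h J hr').ge (rw_fJ_inJ h J hr').ge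
  | inv_mem x hx =>
    rcases hx with hx | ⟨r, t, hr, hx⟩
    · exact hdiag _ (inv_mem hx)
    rw [h.eq_xG_iff.1 hx, h.xG_inv]
    rcases hr with hr | hr
    · have hp := (h.isPosRoot_iff r).1 hr
      have h0 := rw_fJ_nonneg h J (P.isPos_iff.1 hp).2 hp
      exact grades_xG h _ (P.isPos_iff.1 hp).2 _ h0 h0
    · have hr' := (h.inRootSub_iff J r).1 hr
      exact grades_xG h _ hr'.1 _ (rw_fJ_inJ h J hr').ge (rw_fJ_inJ h J hr').ge
  | mul a b _ _ iha ihb => rw [Units.val_mul]; exact grades_mul h le_rfl iha ihb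

theorem gmap_parabolic (σ : F →+* F) (J : Set ℕ) {g : GL D.Idx F} (hg : g ∈ D.parabolicSubgroup F J) :
    gmap D σ g ∈ D.parabolicSubgroup F J := by
  suffices D.parabolicSubgroup F J ≤ (D.parabolicSubgroup F J).comap (gmap D σ) from this hg
  conv_lhs => rw [h.parabolic_gen]
  refine sup_le (fun d hd => Subgroup.mem_sup_left (Subgroup.mem_sup_right (h.gmap_diagonal σ hd)))
    ((Subgroup.closure_le _).2 ?_)
  rintro x ⟨r, t, hr, hx⟩
  rw [h.eq_xG_iff.1 hx, SetLike.mem_coe, Subgroup.mem_comap]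
  rcases hr with hr | hr
  · have hp := (h.isPosRoot_iff r).1 hr
    rw [h.gmap_xG σ (P.isPos_iff.1 hp).2]
    exact Subgroup.mem_sup_left (Subgroup.mem_sup_left (h.xG_mem_pos hp _))
  · have hr' := (h.inRootSub_iff J r).1 hr
    rw [h.gmap_xG σ hr'.1]
    exact h.inJ_mem_parabolic J hr' _

variable {σ : F →+* F} {H : Subgroup (GL D.Idx F)}

theorem fixed_pos_mem (hC : P.ckComm = true) (hT : Tight h σ H) {u : GL D.Idx F}
    (hu : u ∈ D.posUnipotent F) (e : gmap D σ u = u) : u ∈ H := by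
  obtain ⟨t, rfl⟩ := h.pos_normal_form hC hu
  have e1 : ((posL P).map fun r => h.xG r (σ (t r))).prod = ((posL P).map fun r => h.xG r (t r)).prod := by
    refine Eq.trans ?_ e
    rw [map_list_prod, List.map_map]
    refine congrArg List.prod (List.map_congr_left fun r hr => ?_)
    exact (h.gmap_xG σ (P.isPos_iff.1 (mem_posL.1 hr)).2 _).symm
  have e2 := h.prod_unique _ posL_sorted (fun _ hr => mem_posL.1 hr) _ _ e1
  exact (rat_prod h hT t fun r hr => ⟨(P.isPos_iff.1 (mem_posL.1 hr)).2, e2 r hr⟩).1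

/-- A fixed coset of a parabolic subgroup has a rational representative. -/
theorem coset_fixed (hC : P.ckComm = true) (hT : Tight h σ H) (J : Set ℕ) {g : GL D.Idx F}
    (hg : g ∈ D.group F) (hy : (gmap D σ g)⁻¹ * g ∈ D.parabolicSubgroup F J) :
    ∃ l ∈ H, gmap D σ l = l ∧ l⁻¹ * g ∈ D.parabolicSubgroup F J := by
  classical
  obtain ⟨b, hb, l, hl, u, hu, e⟩ := h.bruhat_exists hC (inv_mem hg)
  obtain ⟨a, ha, c, hc, euc⟩ := h.split_pos hC
    (fun r => P.isPos (wl P l r) = true ∨ InJ P J (wl P l r))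
    (fun r => ¬ (P.isPos (wl P l r) = true ∨ InJ P J (wl P l r))) (fun r _ => em _) (h.negS_le_pos l hu)
  have hna : h.nW l * a * (h.nW l)⁻¹ ∈ D.parabolicSubgroup F J := by
    have h1 : h.nW l * a * (h.nW l)⁻¹ ∈
        h.genR (F := F) (fun x => x < P.nroots ∧ (P.isPos x = true ∨ InJ P J x)) :=
      h.nW_genR hl (fun x hx => (P.isPos_iff.1 hx.1).2)
        (fun x hx => ⟨h.wl_lt l hl x (P.isPos_iff.1 hx.1).2, hx.2⟩) ha
    refine h.genR_le (fun x hx t => ?_) h1
    rcases hx.2 with hp | hj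
    · exact Subgroup.mem_sup_left (Subgroup.mem_sup_left (h.xG_mem_pos hp t))
    · exact h.inJ_mem_parabolic J hj t
  set p := b * (h.nW l * a * (h.nW l)⁻¹)
  have hp : p ∈ D.parabolicSubgroup F J := mul_mem (Subgroup.mem_sup_left hb) hna
  have eg : g = c⁻¹ * (h.nW l)⁻¹ * p⁻¹ := by
    rw [← inv_inj, e, euc]
    simp only [p]
    group
  set z := h.nW l * (gmap D σ c * c⁻¹) * (h.nW l)⁻¹
  have hzP : z ∈ D.parabolicSubgroup F J := by
    have e2 : z = (gmap D σ p)⁻¹ * ((gmap D σ g)⁻¹ * g) * p := by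
      rw [eg]
      simp only [z, map_mul, map_inv, h.gmap_nW σ l hl]
      group
    rw [e2]
    exact mul_mem (mul_mem (inv_mem (gmap_parabolic h σ J hp)) hy) hp
  have hcg : c ∈ h.genR (F := F) (fun r => P.isPos r = true ∧
      ¬ (P.isPos (wl P l r) = true ∨ InJ P J (wl P l r))) := hc
  have hcσ : gmap D σ c ∈ h.genR (F := F) (fun r => P.isPos r = true ∧
      ¬ (P.isPos (wl P l r) = true ∨ InJ P J (wl P l r))) :=
    h.map_genR_le σ (fun r hr => (P.isPos_iff.1 hr.1).2) ⟨c, hc, rfl⟩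
  have hzN : z ∈ h.genR (F := F) (fun x => x < P.nroots ∧ P.isPos x = false ∧ ¬ InJ P J x) := by
    refine h.nW_genR hl (fun x hx => (P.isPos_iff.1 hx.1).2) (fun x hx => ?_) (mul_mem hcσ (inv_mem hcg))
    push_neg at hx
    exact ⟨h.wl_lt l hl x (P.isPos_iff.1 hx.1).2, by simpa using hx.2.1, hx.2.2⟩
  have hz1 : (z : Matrix D.Idx D.Idx F) = 1 := by
    have hneg : z ∈ D.negUnipotent F :=
      h.genR_le (fun x hx t => h.xG_mem_neg hx.1 hx.2.1 t) hzN
    refine eq_one_of_grades h (f := fJ J) (fun x => (h.tri_of_neg hneg x x).1 rfl) (grades_parabolic h J hzP) ?_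
    refine grades_genR h _ zero_le_one (fun x hx => ⟨hx.1, ?_⟩) hzN
    obtain ⟨hxn, hxp, hxJ⟩ := hx
    have hnn : ∀ i ∈ Finset.range P.rank, (0 : ℤ) ≤ -fJ J i * P.rv x i := fun i hi => by
      have := (h.rv_sign hxn (Finset.mem_range.1 hi)).2 hxp
      unfold fJ
      split_ifs <;> nlinarith
    have hex : ∃ i < P.rank, i ∉ J ∧ P.rv x i ≠ 0 := by
      by_contra hall
      push_neg at hall
      exact hxJ ⟨hxn, fun i hi hiJ => hall i hi hiJ⟩
    obtain ⟨i, hi, hiJ, hne⟩ := hex
    refine le_trans ?_ (Finset.single_le_sum hnn (Finset.mem_range.2 hi))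
    have := (h.rv_sign hxn hi).2 hxp
    unfold fJ
    rw [if_neg hiJ]
    omega
  have hcfix : gmap D σ c = c := by
    have h1 : z = 1 := Units.ext hz1
    exact mul_inv_eq_one.1 (conj_eq_one_iff.1 h1)
  have hcH : c ∈ H := fixed_pos_mem h hC hT (h.genR_le (fun r hr t => h.xG_mem_pos hr.1 t) hc) hcfix
  have hnH : h.nW (F := F) l ∈ H := by
    have hall : ∀ l, WordOk P l → h.nW (F := F) l ∈ H := by
      intro l
      induction l with
      | nil => intro _; rw [h.nW_nil]; exact one_mem _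
      | cons i l ih => intro hl; rw [h.nW_cons]; exact mul_mem (nG_mem' h hT hl.head) (ih hl.tail)
    exact hall l hl
  refine ⟨c⁻¹ * (h.nW l)⁻¹, mul_mem (inv_mem hcH) (inv_mem hnH), ?_, ?_⟩
  · rw [map_mul, map_inv, map_inv, hcfix, h.gmap_nW σ l hl]
  · rw [eg, show (c⁻¹ * (h.nW l)⁻¹)⁻¹ * (c⁻¹ * (h.nW l)⁻¹ * p⁻¹) = p⁻¹ by group]
    exact inv_mem hp

/-- The parts of `H` in the proper parabolic subgroups are rational. -/
theorem P_fixed (hC : P.ckComm = true) (hT : Tight h σ H) (hck : ckOut P = true)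
    (hU : ∀ v ∈ H, v ∈ D.posUnipotent F → gmap D σ v = v)
    (hB : ∀ v ∈ H, v ∈ D.borelSubgroup F → gmap D σ v = v)
    (J : Set ℕ) (hJ : ∃ m, m < P.rank ∧ m ∉ J) {g : GL D.Idx F} (hgH : g ∈ H)
    (hg : g ∈ D.parabolicSubgroup F J) : gmap D σ g = g := by
  have hgG := hT.le_group hgH
  have hσg : gmap D σ g ∈ D.group F := h.map_group_le σ ⟨g, hgG, rfl⟩
  set y := (gmap D σ g)⁻¹ * g with hy_def
  have hyG : y ∈ D.group F := mul_mem (inv_mem hσg) hgG
  have hyB : y ∈ D.borelSubgroup F := by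
    refine mem_borel_of_cent h hC hck J hJ hyG fun r hr hout => ?_
    obtain ⟨m, hm, hmJ, hrm⟩ := hout
    have hrn := (P.isPos_iff.1 hr).2
    have hxQ : h.xG r (1 : F) ∈ D.unipotentRadical F J := by
      rw [h.radical_eq]
      exact h.xG_mem_genR ⟨hrn, m, hm, hmJ, hrm⟩ 1
    have hgx : g * h.xG r 1 * g⁻¹ ∈ D.unipotentRadical F J :=
      (Subgroup.mem_normalizer_iff.1 (h.radical_normal hC J hg) _).1 hxQ
    have hgU : g * h.xG r 1 * g⁻¹ ∈ D.posUnipotent F := by
      rw [h.radical_eq] at hgx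
      exact h.genR_le (fun r hr t => h.xG_mem_pos ((h.out_iff J r).1 hr).1 t) hgx
    have e := hU _ (mul_mem (mul_mem hgH (one_mem' h hT hrn)) (inv_mem hgH)) hgU
    rw [map_mul, map_mul, map_inv, h.gmap_xG σ hrn, map_one] at e
    calc y * h.xG r 1 = (gmap D σ g)⁻¹ * (g * h.xG r 1 * g⁻¹) * g := by rw [hy_def]; group
      _ = (gmap D σ g)⁻¹ * (gmap D σ g * h.xG r 1 * (gmap D σ g)⁻¹) * g := by rw [e]
      _ = h.xG r 1 * y := by rw [hy_def]; group
  obtain ⟨l, hlH, hlσ, hl⟩ := coset_fixed h hC hT ∅ hgG (Subgroup.mem_sup_left hyB)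
  have hlB : l⁻¹ * g ∈ D.borelSubgroup F := by
    refine sup_le le_rfl ((Subgroup.closure_le _).2 ?_) hl
    rintro x ⟨j, hj, -⟩
    exact absurd hj (Set.notMem_empty j)
  have e := hB _ (mul_mem (inv_mem hlH) hgH) hlB
  rw [map_mul, map_inv, hlσ] at e
  exact mul_left_cancel e

/-- The local subgroups of `H` are rational. -/
theorem N_fixed [Fintype F] (p : ℕ) [Fact p.Prime] [CharP F p] (hC : P.ckComm = true) (hT : Tight h σ H)
    (hPf : ∀ J : Set ℕ, (∃ m, m < P.rank ∧ m ∉ J) → ∀ g ∈ H, g ∈ D.parabolicSubgroup F J → gmap D σ g = g)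
    (V : Subgroup (GL D.Idx F)) (hVH : V ≤ H) (hVfix : ∀ x ∈ V, gmap D σ x = x) (hV : IsPGroup p ↥V)
    (hne : V ≠ ⊥) {n : GL D.Idx F} (hn : n ∈ H) (hnV : n ∈ Subgroup.normalizer (V : Set (GL D.Idx F))) :
    gmap D σ n = n := by
  obtain ⟨g, v, hf, hmin⟩ := h.exists_optimal V p hC (hVH.trans hT.le_group) hV
  have hf' : h.Feas V (gmap D σ g) v := by
    refine ⟨h.map_group_le σ ⟨g, hf.1, rfl⟩, hf.2.1, fun x hx => ?_⟩
    have h1 : gmap D σ (g⁻¹ * x * g) ∈ h.genR (F := F) (SS P v) :=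
      h.map_genR_le σ (fun r hr => hr.1) ⟨_, hf.2.2 x hx, rfl⟩
    rwa [map_mul, map_mul, map_inv, hVfix x hx] at h1
  have hy := (h.optimal_unique V hC hf' hf (fun x u hx => hmin x u hx) rfl).2
  have hJ : ∃ i, i < P.rank ∧ i ∉ zeroJ P v := by
    by_contra hall
    push_neg at hall
    refine hne ((Subgroup.eq_bot_iff_forall V).2 fun x hx => ?_)
    have hbot : h.genR (F := F) (SS P v) ≤ ⊥ := h.genR_le fun r hr => by
      exfalso
      have h1 : cval P v r = 0 := Finset.sum_eq_zero fun i _ => by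
        obtain ⟨hi, hvi⟩ := hall i i.isLt
        rw [show v i = 0 from hvi, mul_zero]
      linarith [hr.2]
    have h2 := Subgroup.mem_bot.1 (hbot (hf.2.2 x hx))
    rw [show x = g * (g⁻¹ * x * g) * g⁻¹ by group, h2]
    group
  obtain ⟨l, hlH, hlσ, hl⟩ := coset_fixed h hC hT (zeroJ P v) hf.1 hy
  have hn' : g⁻¹ * n * g ∈ D.parabolicSubgroup F (zeroJ P v) := by
    have hf2 : h.Feas V (n * g) v := ⟨mul_mem (hT.le_group hn) hf.1, hf.2.1, fun x hx => by
      rw [show (n * g)⁻¹ * x * (n * g) = g⁻¹ * (n⁻¹ * x * n) * g by group]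
      exact hf.2.2 _ ((Subgroup.mem_normalizer_iff''.1 hnV x).1 hx)⟩
    have := (h.optimal_unique V hC hf hf2 hmin rfl).2
    rwa [show g⁻¹ * (n * g) = g⁻¹ * n * g by group] at this
  have hin : l⁻¹ * n * l ∈ D.parabolicSubgroup F (zeroJ P v) := by
    rw [show l⁻¹ * n * l = (l⁻¹ * g) * (g⁻¹ * n * g) * (l⁻¹ * g)⁻¹ by group]
    exact mul_mem (mul_mem hl hn') (inv_mem hl)
  have e := hPf _ hJ _ (mul_mem (mul_mem (inv_mem hlH) hn) hlH) hin
  rw [map_mul, map_mul, map_inv, hlσ] at e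
  exact mul_left_cancel (mul_right_cancel e)

end BGL

end Cfsg.Agent.Chev
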