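/-
Every element of a group between the rational points and the whole group is rational.
-/
import Cfsg.Agent.Lib.Chev.BGL.Coset
import Cfsg.Agent.Lib.Chev.SL2
import Cfsg.Agent.Lib.SL2Dickson.Dickson

set_option autoImplicit false
set_option linter.unusedSectionVars false

namespace Cfsg.Agent.Chev

open Cfsg.Lie
open scoped MatrixGroups

namespace BGL

/-- The facts about the highest root `α`; `S` holds its orbit. -/
def ckAlpha (P : Pk) (α : ℕ) (S : ℕ → Bool) : Bool :=
  P.isPos α && S α &&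
  (P.allRoots.all fun r => decide (P.ht r ≤ P.ht α) && (Nat.beq r α || decide (P.ht r < P.ht α))) &&
  ((List.range P.rank).all fun i => P.allRoots.all fun r => !S r || S (P.w i r)) &&
  ((posL P).all fun r => Nat.beq r α ||
    (decide (P.pair α r = 0) && comQ P 0 r (P.ng α) && comQ P 0 r α) || decide (P.pair α r = 1)) &&
  ((posL P).any fun r => decide (P.pair α r = 0)) &&
  (P.allRoots.all fun r => P.isPos r || !S r || Nat.beq r (P.ng α) || comQ P 0 α r ||
    match P.cterms α r with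
    | [c] => Nat.beq c.2.1.natAbs 1 && Nat.blt c.1 P.nroots && comQ P 0 α c.1 && comQ P 0 r c.1
    | _ => false)

theorem comQ_zero {P : Pk} (q : ℕ) {r s : ℕ} (hc : comQ P 0 r s = true) : comQ P q r s = true := by
  simp only [comQ, zq, nbeq, Bool.or_eq_true, Bool.and_eq_true, List.all_eq_true] at hc ⊢
  refine hc.imp id fun hh => ⟨hh.1, fun c hc' => ?_⟩
  have := hh.2 c hc'
  simp at this

theorem isPGroup_zpowers {G : Type*} [Group G] {p : ℕ} {g : G} (hg : g ^ p = 1) :
    IsPGroup p ↥(Subgroup.zpowers g) := by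
  rintro ⟨x, k, rfl⟩
  refine ⟨1, Subtype.ext ?_⟩
  show (g ^ k) ^ (p ^ 1) = 1
  rw [pow_one, ← zpow_natCast, ← zpow_mul, mul_comm, zpow_mul, zpow_natCast, hg, one_zpow]

open Matrix in
theorem unip_tr {F : Type*} [Field F] {a b : SL(2, F)} (ha : SL2Dickson.IsUnip a) (hb : SL2Dickson.IsUnip b)
    (hab : SL2Dickson.tr (a * b) = 3) : (a * b⁻¹ * a) * (a * b⁻¹ * a) = -1 := by
  have ta := ha.tr_eq
  have tb := hb.tr_eq
  have da := SL2Dickson.det_eq a
  simp only [SL2Dickson.tr, Matrix.SpecialLinearGroup.coe_mul, Matrix.mul_apply, Fin.sum_univ_two] at ta tb hab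
  set w := a * b⁻¹ * a with hw
  have htr : w.1 0 0 + w.1 1 1 = 0 := by
    have e : a.1 1 1 = 2 - a.1 0 0 := by linear_combination ta
    have e' : b.1 1 1 = 2 - b.1 0 0 := by linear_combination tb
    simp only [hw, Matrix.SpecialLinearGroup.coe_mul, Matrix.SpecialLinearGroup.coe_inv, Matrix.adjugate_fin_two,
      Matrix.mul_apply, Fin.sum_univ_two, Matrix.of_apply, Matrix.cons_val', Matrix.cons_val_zero,
      Matrix.cons_val_one, Matrix.empty_val', Matrix.cons_val_fin_one, e']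
    rw [e] at da hab ⊢
    rw [e'] at hab
    linear_combination -2 * da - 2 * hab
  have dw := SL2Dickson.det_eq w
  have e : w.1 1 1 = -w.1 0 0 := by linear_combination htr
  rw [e] at dw
  ext i j
  fin_cases i <;> fin_cases j <;>
    simp [Matrix.mul_apply, Fin.sum_univ_two, e] <;>
    first
    | linear_combination -dw
    | ring

variable {D : ChevalleyDatum} {P : Pk} {F : Type*} [Field F] (h : Ok D P)
include h

theorem pair_rw {r : ℕ} (hr : r < P.nroots) {s : ℕ} (hs : s < P.nroots) :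
    P.pair r s = rw' P (fun k => P.pair r (P.sim k)) s := by
  have hset : (List.range P.rank).toFinset = Finset.range P.rank := by ext; simp
  simp only [rw', Pk.pair, ← List.sum_toFinset _ List.nodup_range, hset, Finset.sum_mul]
  rw [Finset.sum_comm]
  refine Finset.sum_congr rfl fun j hj => ?_
  rw [h.A_eq_sum hs (Finset.mem_range.1 hj), Finset.mul_sum]
  exact Finset.sum_congr rfl fun k _ => by ring

theorem xG_pow' (r : ℕ) (t : F) : ∀ n : ℕ, h.xG r t ^ n = h.xG r ((n : F) * t)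
  | 0 => by simp [h.xG_zero]
  | n + 1 => by
    rw [pow_succ, xG_pow' r t n, h.xG_add]
    push_cast
    ring_nf

theorem xG_pow_char (p : ℕ) [CharP F p] (r : ℕ) (t : F) : h.xG r t ^ p = 1 := by
  rw [xG_pow' h, CharP.cast_eq_zero, zero_mul, h.xG_zero]

theorem xG_ne_one {r : ℕ} (hr : r < P.nroots) {t : F} (ht : t ≠ 0) : h.xG r t ≠ 1 := fun e =>
  ht (h.xG_inj_param hr (e.trans (h.xG_zero r).symm))

variable {α : ℕ} {S : ℕ → Bool}

theorem alpha_top (hck : ckAlpha P α S = true) : P.isPos α = true ∧ (∀ r < P.nroots, P.ht r ≤ P.ht α) ∧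
    ∀ r < P.nroots, r ≠ α → P.ht r < P.ht α := by
  simp only [ckAlpha, Bool.and_eq_true, List.all_eq_true, Pk.mem_allRoots, Bool.or_eq_true, nbeq,
    decide_eq_true_eq] at hck
  exact ⟨hck.1.1.1.1.1.1, fun r hr => (hck.1.1.1.1.2 r hr).1, fun r hr hne =>
    (hck.1.1.1.1.2 r hr).2.resolve_left hne⟩

theorem orbit_mem (hck : ckAlpha P α S = true) : ∀ l, WordOk P l → S (wl P l α) = true := by
  simp only [ckAlpha, Bool.and_eq_true, List.all_eq_true, Pk.mem_allRoots, Bool.or_eq_true,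
    Bool.not_eq_true', List.mem_range] at hck
  intro l
  induction l with
  | nil => intro _; exact hck.1.1.1.1.1.2
  | cons i l ih =>
    intro hl
    show S (P.w i (wl P l α)) = true
    exact (hck.1.1.1.2 i hl.head (wl P l α) (h.wl_lt l hl.tail α (P.isPos_iff.1 hck.1.1.1.1.1.1).2)).resolve_left
      (by simp [ih hl.tail])

/-- The conjugates of the highest root element. -/
theorem conj_shape (hC : P.ckComm = true) (hD : ckDom P = true) (hck : ckAlpha P α S = true) {g : GL D.Idx F}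
    (hg : g ∈ D.group F) :
    ∃ v ∈ D.posUnipotent F, ∃ l, WordOk P l ∧ ∃ c : F, c ≠ 0 ∧
      g * h.xG α (1 : F) * g⁻¹ = v * h.xG (wl P l α) c * v⁻¹ := by
  obtain ⟨hαp, hαh, hαu⟩ := alpha_top h hck
  have hαn := (P.isPos_iff.1 hαp).2
  have hmax : ∀ l, WordOk P l → P.ht (wl P l α) ≤ P.ht α := fun l hl => hαh _ (h.wl_lt l hl α hαn)
  obtain ⟨b, hb, l, hl, u, hu, rfl⟩ := h.bruhat_exists hC hg
  obtain ⟨f, hf0, hf⟩ := h.borel_conj_root hC hD hαp hmax
    (Subgroup.mem_sup_left (h.negS_le_pos l hu) : u ∈ D.borelSubgroup F)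
  have habove : above P α = (above P α).filter fun r => decide (r = α) := by
    refine (List.filter_eq_self.2 fun r hr => decide_eq_true ?_).symm
    obtain ⟨hr1, hr2⟩ := mem_above.1 hr
    have hrn := (P.isPos_iff.1 hr1).2
    by_contra hne
    have hlt := hαu r hrn hne
    have hle : P.ht α ≤ P.ht r := by
      have hset : (List.range P.rank).toFinset = Finset.range P.rank := by ext; simp
      rw [Pk.ht, Pk.ht, ← List.sum_toFinset _ List.nodup_range, ← List.sum_toFinset _ List.nodup_range, hset]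
      exact Finset.sum_le_sum fun i hi => hr2 i (Finset.mem_range.1 hi)
    omega
  have hux : u * h.xG α (1 : F) * u⁻¹ = h.xG α (f α) := by
    have hone : (above P α) = [α] := by
      have hnd : (above P α).Nodup := ((posL_sorted (P := P)).imp fun hh => Nat.ne_of_lt hh).filter _
      have hall : ∀ x ∈ above P α, x = α := fun x hx => by
        rw [habove] at hx
        exact of_decide_eq_true (List.mem_filter.1 hx).2
      have hm : α ∈ above P α := mem_above.2 ⟨hαp, fun i _ => le_rfl⟩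
      match e : above P α with
      | [] => rw [e] at hm; exact absurd hm List.not_mem_nil
      | [x] => rw [e] at hall; rw [hall x List.mem_cons_self]
      | x :: y :: L =>
        rw [e] at hall hnd
        exfalso
        obtain rfl := hall x List.mem_cons_self
        obtain rfl := hall y (List.mem_cons_of_mem _ List.mem_cons_self)
        simp at hnd
    rw [hf, hone]
    simp
  obtain ⟨e, he, hn⟩ := h.conj_nW (F := F) hl (one_mem (D.diagonalSubgroup F)) hαn
  obtain ⟨v, hv, d, hd, rfl⟩ := h.mem_borel hb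
  obtain ⟨c, rfl⟩ := h.mem_diagonal_iff.1 hd
  have hrn := h.wl_lt l hl α hαn
  refine ⟨v, hv, l, hl, hchar P c (wl P l α) * (e * f α),
    mul_ne_zero ((h.isChar_hchar c).ne _ hrn) (mul_ne_zero he hf0), ?_⟩
  have hn' := hn (f α)
  rw [mul_one] at hn'
  rw [← h.hHom_xG c hrn, ← hn', ← hux]
  group

theorem pos_central (hC : P.ckComm = true) (hck : ckAlpha P α S = true) {v : GL D.Idx F}
    (hv : v ∈ D.posUnipotent F) (t : F) : Commute v (h.xG α t) := by
  obtain ⟨hαp, hαh, -⟩ := alpha_top h hck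
  have hk := h.uFil_comm (F := F) hC (P.ht α)
    (Subgroup.commutator_mem_commutator (g₁ := h.xG α t) (g₂ := v) (mem_uFil_xG h hαp le_rfl t) hv)
  have hbot : h.uFil (F := F) (P.ht α + 1) ≤ ⊥ := h.genR_le fun r hr => by
    exfalso
    have := hαh r (P.isPos_iff.1 hr.1).2
    linarith [hr.2]
  exact (commutatorElement_eq_one_iff_mul_comm.1 (Subgroup.mem_bot.1 (hbot hk))).symm

variable {σ : F →+* F} {H : Subgroup (GL D.Idx F)}

/-- The centralizers in `H` of fixed `p`-elements are rational. -/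
theorem cent_fixed [Fintype F] (p : ℕ) [Fact p.Prime] [CharP F p] (hC : P.ckComm = true) (hT : Tight h σ H)
    (hPf : ∀ J : Set ℕ, (∃ m, m < P.rank ∧ m ∉ J) → ∀ g ∈ H, g ∈ D.parabolicSubgroup F J → gmap D σ g = g)
    {z : GL D.Idx F} (hz : z ∈ H) (hzσ : gmap D σ z = z) (hzp : z ^ p = 1) (hz1 : z ≠ 1)
    {n : GL D.Idx F} (hn : n ∈ H) (hnz : Commute n z) : gmap D σ n = n := by
  refine N_fixed h p hC hT hPf (Subgroup.zpowers z) (Subgroup.zpowers_le.2 hz) ?_ (isPGroup_zpowers hzp)
    (Subgroup.zpowers_ne_bot.2 hz1) hn ?_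
  · rintro _ ⟨k, rfl⟩
    show gmap D σ (z ^ k) = z ^ k
    rw [map_zpow, hzσ]
  · rw [Subgroup.mem_normalizer_iff]
    intro m
    constructor
    · rintro ⟨k, rfl⟩
      refine ⟨k, ?_⟩
      show z ^ k = n * z ^ k * n⁻¹
      rw [(hnz.zpow_right k).eq, mul_inv_cancel_right]
    · rintro ⟨k, e⟩
      refine ⟨k, ?_⟩
      have e' : z ^ k = n * m * n⁻¹ := e
      have e2 : n * z ^ k * n⁻¹ = n * m * n⁻¹ := by rw [(hnz.zpow_right k).eq, mul_inv_cancel_right, e']
      exact mul_left_cancel (mul_right_cancel e2)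

/-- An element moving the highest root element to a rational element is rational. -/
theorem mover_fixed (hC : P.ckComm = true) (hD : ckDom P = true) (hT : Tight h σ H) (hck : ckAlpha P α S = true)
    (hPf : ∀ J : Set ℕ, (∃ m, m < P.rank ∧ m ∉ J) → ∀ g ∈ H, g ∈ D.parabolicSubgroup F J → gmap D σ g = g)
    {g : GL D.Idx F} (hg : g ∈ H)
    (hgx : gmap D σ (g * h.xG α (1 : F) * g⁻¹) = g * h.xG α (1 : F) * g⁻¹) : gmap D σ g = g := by
  obtain ⟨hαp, hαh, -⟩ := alpha_top h hck
  have hαn := (P.isPos_iff.1 hαp).2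
  have hgG := hT.le_group hg
  rw [map_mul, map_mul, map_inv, h.gmap_xG σ hαn, map_one] at hgx
  have hJ : ∃ m, m < P.rank ∧ m ∉ {i | P.A i α = 0} := by
    by_contra hall
    push_neg at hall
    have h2 : P.pair α α = 0 := by
      have hset : (List.range P.rank).toFinset = Finset.range P.rank := by ext; simp
      rw [Pk.pair, ← List.sum_toFinset _ List.nodup_range, hset]
      refine Finset.sum_eq_zero fun i hi => ?_
      rw [show P.A i α = 0 from hall i (Finset.mem_range.1 hi), mul_zero]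
    have hro := h.roots
    simp only [Pk.ckRoots, List.all_eq_true, Pk.mem_allRoots, Bool.and_eq_true, decide_eq_true_eq] at hro
    have := (hro α hαn).1.2
    omega
  have hy : (gmap D σ g)⁻¹ * g ∈ D.parabolicSubgroup F {i | P.A i α = 0} := by
    refine h.centralizer_le_parabolic hC hD hαp (fun l hl => hαh _ (h.wl_lt l hl α hαn))
      (mul_mem (inv_mem (h.map_group_le σ ⟨g, hgG, rfl⟩)) hgG) ?_
    calc (gmap D σ g)⁻¹ * g * h.xG α 1
        = (gmap D σ g)⁻¹ * (g * h.xG α 1 * g⁻¹) * g := by group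
      _ = (gmap D σ g)⁻¹ * (gmap D σ g * h.xG α 1 * (gmap D σ g)⁻¹) * g := by rw [hgx]
      _ = h.xG α 1 * ((gmap D σ g)⁻¹ * g) := by group
  obtain ⟨l, hlH, hlσ, hl⟩ := coset_fixed h hC hT _ hgG hy
  have e := hPf _ hJ _ (mul_mem (inv_mem hlH) hg) hl
  rw [map_mul, map_inv, hlσ] at e
  exact mul_left_cancel e

/-- Every element of `H` is rational. -/
theorem all_fixed [Fintype F] (p : ℕ) [Fact p.Prime] [CharP F p] (hC : P.ckComm = true) (hR : P.ckRefl = true)
    (hD : ckDom P = true) (hT : Tight h σ H) (hck : ckAlpha P α S = true)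
    (hU : ∀ v ∈ H, v ∈ D.posUnipotent F → gmap D σ v = v)
    (hPf : ∀ J : Set ℕ, (∃ m, m < P.rank ∧ m ∉ J) → ∀ g ∈ H, g ∈ D.parabolicSubgroup F J → gmap D σ g = g)
    (h2 : p = 2 → ∃ t ∈ H, gmap D σ t = t ∧ t * t = 1 ∧ t ≠ 1 ∧
      ∀ g ∈ D.group F, g * h.xG α (1 : F) * g⁻¹ ≠ t)
    {g : GL D.Idx F} (hg : g ∈ H) : gmap D σ g = g := by
  classical
  refine mover_fixed h hC hD hT hck hPf hg ?_
  obtain ⟨hαp, hαh, hαu⟩ := alpha_top h hck
  have hαn := (P.isPos_iff.1 hαp).2
  set x := h.xG α (1 : F) with hx_def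
  have hxH : x ∈ H := one_mem' h hT hαn
  have hxσ : gmap D σ x = x := by rw [hx_def, h.gmap_xG σ hαn, map_one]
  have hxp : x ^ p = 1 := xG_pow_char h p α 1
  have hx1 : x ≠ 1 := xG_ne_one h hαn one_ne_zero
  have hcx : ∀ n ∈ H, Commute n x → gmap D σ n = n := fun n hn hc =>
    cent_fixed h p hC hT hPf hxH hxσ hxp hx1 hn hc
  have hyH : g * x * g⁻¹ ∈ H := mul_mem (mul_mem hg hxH) (inv_mem hg)
  set y := g * x * g⁻¹ with hy_def
  have hyp : y ^ p = 1 := by rw [hy_def, conj_pow, hxp, mul_one, mul_inv_cancel]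
  rcases eq_or_ne p 2 with hp2 | hp2
  · subst hp2
    obtain ⟨t, htH, htσ, ht2, ht1, htn⟩ := h2 rfl
    have hyy : y * y = 1 := by rw [← pow_two]; exact hyp
    set d := y * t with hd_def
    have hd : d ∈ H := mul_mem hyH htH
    have hyd : SemiconjBy y d d⁻¹ := by
      show y * d = d⁻¹ * y
      rw [hd_def, mul_inv_rev, inv_eq_of_mul_eq_one_right hyy, inv_eq_of_mul_eq_one_right ht2,
        ← mul_assoc, hyy, mul_assoc, hyy, one_mul, mul_one]
    have hdt : t = y * d := by rw [hd_def, ← mul_assoc, hyy, one_mul]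
    have hfin : IsOfFinOrder d := isOfFinOrder_of_finite d
    rcases Nat.even_or_odd (orderOf d) with ⟨m, hm⟩ | ⟨m, hm⟩
    · have hm0 : 0 < m := by have := hfin.orderOf_pos; omega
      have hi2 : d ^ m * d ^ m = 1 := by rw [← pow_add, ← hm, pow_orderOf_eq_one]
      have hi1 : d ^ m ≠ 1 := pow_ne_one_of_lt_orderOf hm0.ne' (by omega)
      have hyi : Commute y (d ^ m) := by
        have e := (hyd.pow_right m).eq
        rw [inv_pow, inv_eq_of_mul_eq_one_right hi2] at e
        exact e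
      have hti : Commute t (d ^ m) := hdt ▸ hyi.mul_left (Commute.self_pow d m)
      have hiσ := cent_fixed h 2 hC hT hPf htH htσ (by rw [pow_two]; exact ht2) ht1 (pow_mem hd m) hti.symm
      exact cent_fixed h 2 hC hT hPf (pow_mem hd m) hiσ (by rw [pow_two]; exact hi2) hi1 hyH hyi
    · exfalso
      refine htn (d ^ m * g) (mul_mem (pow_mem (hT.le_group hd) m) (hT.le_group hg)) ?_
      have e := (hyd.pow_right m).eq
      rw [inv_pow] at e
      have e2 : d ^ m * y = y * (d ^ m)⁻¹ := by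
        rw [eq_mul_inv_iff_mul_eq, mul_assoc, e, mul_inv_cancel_left]
      have e3 : (d ^ m)⁻¹ * (d ^ m)⁻¹ = d := by
        rw [← mul_inv_rev, inv_eq_iff_mul_eq_one, ← pow_add, ← pow_succ, show m + m + 1 = orderOf d by omega,
          pow_orderOf_eq_one]
      calc d ^ m * g * x * (d ^ m * g)⁻¹ = d ^ m * y * (d ^ m)⁻¹ := by rw [hy_def]; group
        _ = t := by rw [e2, mul_assoc, e3, hdt]
  obtain ⟨v, hv, l, hl, c, hc, hyv⟩ := conj_shape h hC hD hck (hT.le_group hg)
  rw [← hx_def, ← hy_def] at hyv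
  have hSr := orbit_mem h hck l hl
  have hrn := h.wl_lt l hl α hαn
  set r := wl P l α
  cases hrp : P.isPos r
  swap
  · exact hU y hyH (hyv ▸ mul_mem (mul_mem hv (h.xG_mem_pos hrp c)) (inv_mem hv))
  have hvx : v * x * v⁻¹ = x := by rw [(pos_central h hC hck hv (1 : F)).eq, mul_inv_cancel_right]
  simp only [ckAlpha, Bool.and_eq_true, List.all_eq_true, Pk.mem_allRoots, Bool.or_eq_true, nbeq,
    decide_eq_true_eq, List.any_eq_true, Bool.not_eq_true', mem_posL] at hck
  obtain ⟨⟨⟨-, hpairs⟩, hb⟩, hneg⟩ := hck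
  have hq := hneg r hrn
  rw [hrp, hSr] at hq
  simp only [Bool.false_eq_true, Bool.true_eq_false, false_or, or_false] at hq
  have hsr : r ≠ α := fun e => by rw [e, hαp] at hrp; exact Bool.noConfusion hrp
  have hp3 : (2 : F) ≠ 0 := by
    intro e
    have : ((2 : ℕ) : F) = 0 := by exact_mod_cast e
    rw [CharP.cast_eq_zero_iff F p, Nat.prime_dvd_prime_iff_eq (Fact.out : p.Prime) Nat.prime_two] at this
    exact hp2 this
  by_cases hra : r = P.ng α
  swap
  · rcases hq.imp_left (fun e => e.resolve_left hra) with hcom | hone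
    · refine hcx y hyH ?_
      have := (comQ_commute h p hC hαn hrn (comQ_zero _ hcom) (1 : F) c).map (MulAut.conj v)
      rw [MulAut.conj_apply, MulAut.conj_apply, hvx, ← hyv] at this
      exact this.symm
    split at hone
    case h_2 => exact absurd hone Bool.false_ne_true
    case h_1 c0 hc0 =>
    simp only [Bool.and_eq_true, nbeq, decide_eq_true_eq, Nat.blt_eq] at hone
    obtain ⟨⟨⟨hcoef, hkn⟩, hak⟩, hrk⟩ := hone
    set X := h.xG r c with hX_def
    set z : F := ((c0.2.1 * (-1) ^ c0.2.2.1 : ℤ) : F) * (1 : F) ^ c0.2.2.1 * c ^ c0.2.2.2 with hz_def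
    have hz : z ≠ 0 := by
      refine mul_ne_zero (mul_ne_zero ?_ (pow_ne_zero _ one_ne_zero)) (pow_ne_zero _ hc)
      rw [Int.cast_mul, Int.cast_pow, Int.cast_neg, Int.cast_one]
      refine mul_ne_zero ?_ (pow_ne_zero _ (neg_ne_zero.2 one_ne_zero))
      rcases Int.natAbs_eq c0.2.1 with e | e <;> rw [e, hcoef] <;> simp
    have he : X * x = x * X * h.xG c0.1 z := by
      have e := h.comm_xG hC hαn hrn hsr hra (1 : F) c
      simpa [Pk.cword, hc0, hz_def, hX_def, hx_def] using e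
    set Z := v * h.xG c0.1 z * v⁻¹ with hZ_def
    have hZH : Z ∈ H := by
      have e : Z = y⁻¹ * x⁻¹ * y * x := by
        rw [hZ_def, show h.xG c0.1 z = (x * X)⁻¹ * (X * x) by rw [he]; group]
        have hx' : (x : GL D.Idx F) = v * x * v⁻¹ := hvx.symm
        calc v * ((x * X)⁻¹ * (X * x)) * v⁻¹
            = (v * X * v⁻¹)⁻¹ * (v * x * v⁻¹)⁻¹ * (v * X * v⁻¹) * (v * x * v⁻¹) := by group
          _ = _ := by rw [← hx', ← hyv]
      rw [e]
      exact mul_mem (mul_mem (mul_mem (inv_mem hyH) (inv_mem hxH)) hyH) hxH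
    have hZp : Z ^ p = 1 := by rw [hZ_def, conj_pow, xG_pow_char h p, mul_one, mul_inv_cancel]
    have hZ1 : Z ≠ 1 := fun e => xG_ne_one h hkn hz (conj_eq_one_iff.1 e)
    have hxZ : Commute x Z := by
      have := (comQ_commute h p hC hαn hkn (comQ_zero _ hak) (1 : F) z).map (MulAut.conj v)
      rwa [MulAut.conj_apply, MulAut.conj_apply, hvx, ← hZ_def] at this
    have hyZ : Commute y Z := by
      have := (comQ_commute h p hC hrn hkn (comQ_zero _ hrk) c z).map (MulAut.conj v)
      rwa [MulAut.conj_apply, MulAut.conj_apply, ← hyv, ← hZ_def] at this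
    exact cent_fixed h p hC hT hPf hZH (hcx Z hZH hxZ.symm) hZp hZ1 hyH hyZ
  -- the opposite root
  rw [hra] at hyv
  obtain ⟨φ, -, hφU, hφL⟩ := h.exists_sl2 (F := F) hR hαn
  let ψ : SL(2, F) →* GL D.Idx F := (MulAut.conj v).toMonoidHom.comp φ
  have hψ : ∀ k, ψ k = v * φ k * v⁻¹ := fun k => rfl
  have hψx : ψ (sU 1) = x := by rw [hψ, hφU, hvx]
  have hψy : ψ (sL c) = y := by rw [hψ, hφL, hyv]
  let K : Subgroup SL(2, F) := H.comap ψ
  have : Finite (Matrix.SpecialLinearGroup (Fin 2) F) :=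
    Finite.of_injective (fun g : SL(2, F) => g.1) Subtype.val_injective
  have hU' : ∀ t : F, SL2Dickson.IsUnip (sU t) := fun t => by
    ext i j; fin_cases i <;> fin_cases j <;> simp [coe_sU, Matrix.mul_apply, Fin.sum_univ_two]
  have hL' : ∀ t : F, SL2Dickson.IsUnip (sL t) := fun t => by
    ext i j; fin_cases i <;> fin_cases j <;>
      simp [show (sL t : SL(2, F)).1 = !![1, 0; t, 1] from rfl, Matrix.mul_apply, Fin.sum_univ_two]
  have htr : SL2Dickson.tr (sU (1 : F) * sL c) ≠ 2 := by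
    intro e
    simp [SL2Dickson.tr, coe_sU, show (sL c : SL(2, F)).1 = !![1, 0; c, 1] from rfl, Matrix.mul_apply,
      Fin.sum_univ_two] at e
    exact hc (by linear_combination e)
  obtain ⟨a', b', ha', hb', hau, hbu, h3⟩ := SL2Dickson.exists_pair_trace_three (p := p) hp2 (H := K)
    (show sU (1 : F) ∈ K from Subgroup.mem_comap.2 (by rw [hψx]; exact hxH))
    (show sL c ∈ K from Subgroup.mem_comap.2 (by rw [hψy]; exact hyH)) (hU' 1) (hL' c) htr
  have hm1 : (-1 : SL(2, F)) ∈ K := by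
    rw [← unip_tr hau hbu h3]
    exact mul_mem (mul_mem (mul_mem ha' (inv_mem hb')) ha') (mul_mem (mul_mem ha' (inv_mem hb')) ha')
  set hh := φ (-1) with hhh_def
  have hW : (-1 : SL(2, F)) = (sU 1 * sL (-1) * sU 1) * (sU 1 * sL (-1) * sU 1) := by
    ext i j; fin_cases i <;> fin_cases j <;>
      simp [coe_sU, show (sL (-1) : SL(2, F)).1 = !![1, 0; -1, 1] from rfl, Matrix.mul_apply, Fin.sum_univ_two]
  have hh2 : hh * hh = 1 := by rw [hhh_def, ← map_mul, neg_one_mul, neg_neg, map_one]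
  have hhnt : hh = h.nt α 1 * h.nt α 1 := by
    rw [hhh_def, hW, map_mul, map_mul, map_mul, hφU, hφL]
    simp [Ok.nt]
  have hhσ : gmap D σ hh = hh := by
    simp [hhnt, Ok.nt, h.gmap_xG σ hαn, h.gmap_xG σ (Ok.ng_lt hαn)]
  have hhd : ∀ (r : ℕ), r < P.nroots → ∀ t : F,
      hh * h.xG r t * hh⁻¹ = h.xG r ((-1 : F) ^ P.pair α r * t) := by
    intro r hr t
    have e : h.ht α (-1 : F) = hh := by
      rw [show h.ht α (-1 : F) = h.nt α (-1) * h.nt α (-1) from rfl, h.nt_neg, ← mul_inv_rev, ← hhnt]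
      exact inv_eq_of_mul_eq_one_right hh2
    rw [← e, h.ht_eq hαn (neg_ne_zero.2 one_ne_zero), h.dG_xG _ hr]
  set z := ψ (-1) with hz_def
  have hzH : z ∈ H := hm1
  have hzσ : gmap D σ z = z := by
    refine hcx z hzH ?_
    have e : (-1 : SL(2, F)) * sU 1 = sU 1 * -1 := by simp
    have := congrArg ψ e
    rwa [map_mul, map_mul, hψx] at this
  obtain ⟨a, ha, b', hb'm, hv'⟩ := h.split_pos hC (fun r => P.pair α r ≠ 0) (fun r => P.pair α r = 0)
    (fun r _ => (em _).symm) hv
  set X := h.xG (P.ng α) c with hX_def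
  have hpair2 : P.pair α α = 2 := by
    have hro := h.roots
    simp only [Pk.ckRoots, List.all_eq_true, Pk.mem_allRoots, Bool.and_eq_true, decide_eq_true_eq] at hro
    exact (hro α hαn).1.2
  have horth : ∀ r, P.isPos r = true → P.pair α r = 0 →
      comQ P 0 r (P.ng α) = true ∧ comQ P 0 r α = true := by
    intro r hr h0
    rcases hpairs r hr with (e | e) | e
    · rw [e, hpair2] at h0; omega
    · exact ⟨e.1.2, e.2⟩
    · omega
  have hbc : b' ∈ Subgroup.centralizer ({hh, X} : Set (GL D.Idx F)) := by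
    refine h.genR_le (fun r hr t => ?_) hb'm
    have hrn := (P.isPos_iff.1 hr.1).2
    rw [Subgroup.mem_centralizer_iff]
    rintro _ (rfl | rfl)
    · have e := hhd r hrn t
      rw [hr.2, zpow_zero, one_mul] at e
      exact mul_inv_eq_iff_eq_mul.1 e
    · exact (comQ_commute h p hC hrn (Ok.ng_lt hαn) (comQ_zero _ (horth r hr.1 hr.2).1) t c).eq.symm
  have hbh := Subgroup.mem_centralizer_iff.1 hbc hh (Set.mem_insert _ _)
  have hbX := Subgroup.mem_centralizer_iff.1 hbc X (Set.mem_insert_of_mem _ rfl)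
  have hza : z = a * hh * a⁻¹ := by
    rw [hz_def, hψ, ← hhh_def, hv', show a * b' * hh * (a * b')⁻¹ = a * (b' * hh) * b'⁻¹ * a⁻¹ by group, ← hbh]
    group
  have hya : y = a * X * a⁻¹ := by
    rw [hyv, hv', show a * b' * X * (a * b')⁻¹ = a * (b' * X) * b'⁻¹ * a⁻¹ by group, ← hbX]
    group
  set Q : ℕ → Prop := fun r => P.isPos r = true ∧ P.pair α r ≠ 0
  have hnn : ∀ r, P.isPos r = true → 0 ≤ P.pair α r := fun r hr => by
    rcases hpairs r hr with (e | e) | e
    · rw [e, hpair2]; norm_num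
    · omega
    · omega
  have hQ : ClosedP P Q := ⟨fun r hr => hr.1, fun r s hr hs k hk => by
    have hrn := (P.isPos_iff.1 hr.1).2
    have hsn := (P.isPos_iff.1 hs.1).2
    refine ⟨(h.pos_tgt hr.1 hs.1 hk).1, ?_⟩
    have h1 := hnn r hr.1
    have h2 := hnn s hs.1
    have h3 := hr.2
    have h4 := hs.2
    rw [pair_rw h hαn hrn] at h1 h3
    rw [pair_rw h hαn hsn] at h2 h4
    rw [pair_rw h hαn (h.tgt_lt hrn hsn hk), rw_tgt h _ hrn hsn hk]
    have : (0 : ℤ) ≤ ((k : ℤ) + 1) * rw' P (fun j => P.pair α (P.sim j)) r := by positivity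
    omega⟩
  have hda : a⁻¹ * gmap D σ a ∈ h.genR (F := F) Q :=
    mul_mem (inv_mem ha) (h.map_genR_le σ (fun r hr => (P.isPos_iff.1 hr.1).2) ⟨a, ha, rfl⟩)
  obtain ⟨u, hu0, hud⟩ := h.exists_supported hC hQ hda
  have hdh : hh * (a⁻¹ * gmap D σ a) * hh⁻¹ = a⁻¹ * gmap D σ a := by
    have e := hzσ
    rw [hza, map_mul, map_mul, map_inv, hhσ] at e
    rw [mul_inv_eq_iff_eq_mul]
    calc hh * (a⁻¹ * gmap D σ a) = a⁻¹ * (a * hh * a⁻¹) * gmap D σ a := by group
      _ = a⁻¹ * (gmap D σ a * hh * (gmap D σ a)⁻¹) * gmap D σ a := by rw [e]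
      _ = a⁻¹ * gmap D σ a * hh := by group
  have hu1 : ∀ r, P.isPos r = true → r ≠ α → u r = 0 := by
    intro r hr hne
    by_cases hq : Q r
    swap
    · exact hu0 r hq
    have h1 : P.pair α r = 1 := by
      rcases hpairs r hr with (e | e) | e
      · exact absurd e hne
      · exact absurd e.1.1 hq.2
      · exact e
    rw [hud, ← MulAut.conj_apply, map_list_prod, List.map_map] at hdh
    have e2 : ((posL P).map fun r => h.xG r ((-1 : F) ^ P.pair α r * u r)).prod =
        ((posL P).map fun r => h.xG r (u r)).prod := by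
      refine Eq.trans ?_ hdh
      refine congrArg List.prod (List.map_congr_left fun r hr => ?_)
      simp [hhd r (P.isPos_iff.1 (mem_posL.1 hr)).2]
    have e3 := h.prod_unique (posL P) posL_sorted (fun r hr => mem_posL.1 hr) _ _ e2 r (mem_posL.2 hr)
    rw [h1, zpow_one] at e3
    have : (2 : F) * u r = 0 := by linear_combination -e3
    exact (mul_eq_zero.1 this).resolve_left hp3
  obtain ⟨b, hb0, hbp⟩ : ∃ b, P.isPos b = true ∧ P.pair α b = 0 := hb
  have hbn := (P.isPos_iff.1 hb0).2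
  obtain ⟨hbm, hbα⟩ := horth b hb0 hbp
  set d := a⁻¹ * gmap D σ a
  have hdb : Commute d (h.xG b (1 : F)) := by
    have : d ∈ Subgroup.centralizer ({h.xG b (1 : F)} : Set (GL D.Idx F)) := by
      rw [hud]
      refine list_prod_mem fun m hm => ?_
      obtain ⟨r, hr, rfl⟩ := List.mem_map.1 hm
      rw [Subgroup.mem_centralizer_iff]
      rintro _ rfl
      by_cases e : r = α
      · rw [e]; exact (comQ_commute h p hC hbn hαn (comQ_zero _ hbα) (1 : F) (u α)).eq
      · rw [hu1 r (mem_posL.1 hr) e, h.xG_zero, mul_one, one_mul]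
    exact (Subgroup.mem_centralizer_iff.1 this _ rfl).symm
  set x' := a * h.xG b (1 : F) * a⁻¹ with hx'_def
  have haU : a ∈ D.posUnipotent F := h.genR_le (fun r hr t => h.xG_mem_pos hr.1 t) ha
  have hx'U : x' ∈ D.posUnipotent F := mul_mem (mul_mem haU (h.xG_mem_pos hb0 _)) (inv_mem haU)
  have hx'σ : gmap D σ x' = x' := by
    rw [hx'_def, map_mul, map_mul, map_inv, h.gmap_xG σ hbn, map_one,
      show gmap D σ a = a * d by simp [d],
      show a * d * h.xG b 1 * (a * d)⁻¹ = a * (d * h.xG b 1) * d⁻¹ * a⁻¹ by group, hdb.eq]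
    group
  have hx'p : x' ^ p = 1 := by rw [hx'_def, conj_pow, xG_pow_char h p, mul_one, mul_inv_cancel]
  refine cent_fixed h p hC hT hPf (fixed_pos_mem h hC hT hx'U hx'σ) hx'σ hx'p
    (fun e => xG_ne_one h hbn one_ne_zero (conj_eq_one_iff.1 e)) hyH ?_
  have := (comQ_commute h p hC hbn (Ok.ng_lt hαn) (comQ_zero _ hbm) (1 : F) c).map (MulAut.conj a)
  rw [MulAut.conj_apply, MulAut.conj_apply, ← hX_def, ← hya, ← hx'_def] at this
  exact this.symm

end BGL

end Cfsg.Agent.Chev
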