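/-
The table checks of all seven types, bundled.
-/
import Cfsg.Agent.Lib.Chev.BGL.Strong
import Cfsg.Agent.Lib.Chev.BGL.Field
import Cfsg.Agent.Lib.Chev.BGL.B2

set_option autoImplicit false

namespace Cfsg.Agent.Chev

namespace BGL

/-- The long roots by their pairings. -/
def isLong (P : Pk) (r : ℕ) : Bool :=
  P.allRoots.all fun s => Nat.beq s r || Nat.beq s (P.ng r) || decide ((P.pair r s).natAbs ≤ 1)

/-- The height-ordered pair of roots giving an involution outside the class of the highest root element. -/
def ckInv (P : Pk) (S : ℕ → Bool) (a b : ℕ) : Bool :=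
  P.isPos a && P.isPos b && decide (P.ht a = P.ht b) &&
    ((Nat.beq a b && !S a) || (!Nat.beq a b && comQ P 0 a b))

/-- The checks of the unipotent and Borel parts for one characteristic class. -/
def ckUB (P : Pk) (q : ℕ) : Bool := (posL P).all fun r => ckA P q r && ckB P q r

end BGL

end Cfsg.Agent.Chev
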