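/-
A group containing the rational root elements lies between two rational forms.
-/
import Cfsg.Agent.Lib.Chev.BGL.Tables.B2
import Cfsg.Agent.Lib.Chev.BGL.Tables.G2
import Cfsg.Agent.Lib.Chev.BGL.Tables.D4
import Cfsg.Agent.Lib.Chev.BGL.Tables.F4
import Cfsg.Agent.Lib.Chev.BGL.Tables.E6
import Cfsg.Agent.Lib.Chev.BGL.Tables.E7
import Cfsg.Agent.Lib.Chev.BGL.Tables.E8
import Cfsg.Agent.Lib.Chev.AllR
import Cfsg.Agent.Lib.Chev.AllC
import Mathlib.FieldTheory.Finite.Basic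

set_option autoImplicit false
set_option linter.unusedSectionVars false

namespace Cfsg.Agent.Chev

open Cfsg.Lie

namespace BGL

section Card

variable {F : Type*} [Field F]

theorem card_fix_le [Fintype F] {Q : ℕ} (hQ : 1 < Q) : Nat.card {t : F // t ^ Q = t} ≤ Q := by
  classical
  rw [Nat.card_eq_fintype_card, Fintype.card_subtype]
  set f : Polynomial F := Polynomial.X ^ Q - Polynomial.X
  have hf : f ≠ 0 := FiniteField.X_pow_card_sub_X_ne_zero F hQ
  refine le_trans (Finset.card_le_card (t := f.roots.toFinset) fun t ht => ?_) ?_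
  · rw [Multiset.mem_toFinset, Polynomial.mem_roots hf]
    simp only [Finset.mem_filter, Finset.mem_univ, true_and] at ht
    simp [f, Polynomial.IsRoot.def, ht]
  · refine le_trans (Multiset.toFinset_card_le _) (le_trans (Polynomial.card_roots' f) ?_)
    rw [FiniteField.X_pow_card_sub_X_natDegree_eq F hQ]

theorem subfield_card_pow [Finite F] (K1 K2 : Subfield F) (hle : K1 ≤ K2) :
    ∃ m, Nat.card K2 = Nat.card K1 ^ m := by
  let _ : Algebra K1 K2 := (Subfield.inclusion hle).toAlgebra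
  exact ⟨_, Module.natCard_eq_pow_finrank (K := K1) (V := K2)⟩

/-- A multiplicatively closed additive set of a finite field is a field of `q ^ n` elements. -/
theorem field_set [Fintype F] (p : ℕ) [Fact p.Prime] [CharP F p] {a : ℕ} (ha : 1 ≤ a)
    (hq : Nat.card {t : F // t ^ p ^ a = t} = p ^ a) (R : Set F) (h1 : (1 : F) ∈ R)
    (hadd : ∀ t ∈ R, ∀ u ∈ R, t + u ∈ R) (hneg : ∀ t ∈ R, -t ∈ R) (hmul : ∀ t ∈ R, ∀ u ∈ R, t * u ∈ R)
    (hbase : ∀ t : F, t ^ p ^ a = t → t ∈ R) :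
    ∃ n, 1 ≤ n ∧ Nat.card {t : F // t ^ (p ^ a) ^ n = t} = (p ^ a) ^ n ∧
      (∀ t : F, t ∈ R ↔ t ^ (p ^ a) ^ n = t) ∧ ∃ m, Fintype.card F = ((p ^ a) ^ n) ^ m := by
  classical
  let K2 : Subfield F :=
    { carrier := R
      one_mem' := h1
      zero_mem' := by simpa using hadd 1 h1 (-1) (hneg 1 h1)
      add_mem' := fun ht hu => hadd _ ht _ hu
      neg_mem' := fun ht => hneg _ ht
      mul_mem' := fun ht hu => hmul _ ht _ hu
      inv_mem' := fun t ht => inv_mem_of_mul h1 hmul ht }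
  let K1 : Subfield F := (iterateFrobenius F p a).eqLocusField (RingHom.id F)
  have hK1 : ∀ t : F, t ∈ K1 ↔ t ^ p ^ a = t := fun t => Iff.rfl
  have hc1 : Nat.card K1 = p ^ a := by
    rw [← hq]
    exact Nat.card_congr (Equiv.subtypeEquivRight hK1)
  obtain ⟨n, hn⟩ := subfield_card_pow K1 K2 fun t ht => hbase t ((hK1 t).1 ht)
  rw [hc1] at hn
  obtain ⟨m, hm⟩ := subfield_card_pow K2 ⊤ le_top
  have htop : Nat.card (⊤ : Subfield F) = Fintype.card F := by
    rw [Nat.card_congr (Equiv.subtypeUnivEquiv fun t => Subfield.mem_top t), Nat.card_eq_fintype_card]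
  rw [htop, hn] at hm
  have h1lt : 1 < Nat.card K2 := Finite.one_lt_card
  have hn1 : 1 ≤ n := by
    by_contra h0
    rw [hn, show n = 0 by omega, pow_zero] at h1lt
    omega
  set Q := (p ^ a) ^ n
  have hsub : ∀ t ∈ R, t ^ Q = t := fun t ht => by
    have := FiniteField.pow_card (⟨t, ht⟩ : K2)
    rw [← Nat.card_eq_fintype_card, hn] at this
    exact congrArg Subtype.val this
  have hinj : Function.Injective (fun t : K2 => (⟨t.1, hsub t.1 t.2⟩ : {t : F // t ^ Q = t})) :=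
    fun x y e => Subtype.ext (congrArg (fun z => z.1) e)
  have hle := card_fix_le (F := F) (Q := Q) (by rw [← hn]; exact h1lt)
  have hge := Nat.card_le_card_of_injective _ hinj
  rw [hn] at hge
  have hcard : Nat.card {t : F // t ^ Q = t} = Q := le_antisymm hle hge
  refine ⟨n, hn1, hcard, fun t => ⟨hsub t, fun ht => ?_⟩, m, hm⟩
  obtain ⟨u, hu⟩ := (hinj.bijective_of_nat_card_le (by rw [hn, hcard])).2 ⟨t, ht⟩
  have e : u.1 = t := congrArg Subtype.val hu
  exact e ▸ u.2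

end Card

variable {D : ChevalleyDatum} {P : Pk} {F : Type*} [Field F] (h : Ok D P)
include h

theorem gmap_fixed_iff (σ : F →+* F) (g : GL D.Idx F) :
    gmap D σ g = g ↔ ∀ i j, σ ((g : Matrix D.Idx D.Idx F) i j) = (g : Matrix D.Idx D.Idx F) i j := by
  rw [Units.ext_iff, coe_gmap, ← Matrix.ext_iff]
  rfl

/-- An involution outside the class of the highest root element. -/
theorem inv_exists [CharP F 2] {σ : F →+* F} {H : Subgroup (GL D.Idx F)} (hC : P.ckComm = true)
    (hD : ckDom P = true) (hT : Tight h σ H) {α : ℕ} {S : ℕ → Bool} (hα : ckAlpha P α S = true) {a b : ℕ}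
    (hck : ckInv P S a b = true) :
    ∃ t ∈ H, gmap D σ t = t ∧ t * t = 1 ∧ t ≠ 1 ∧ ∀ g ∈ D.group F, g * h.xG α (1 : F) * g⁻¹ ≠ t := by
  simp only [ckInv, Bool.and_eq_true, Bool.or_eq_true, nbeq, decide_eq_true_eq, Bool.not_eq_true',
    decide_eq_false_iff_not] at hck
  obtain ⟨⟨⟨ha, hb⟩, hht⟩, hcase⟩ := hck
  have han := (P.isPos_iff.1 ha).2
  have hbn := (P.isPos_iff.1 hb).2
  set t := if a = b then h.xG a (1 : F) else h.xG a 1 * h.xG b 1 with ht_def
  have hsq : ∀ r, h.xG r (1 : F) * h.xG r 1 = 1 := fun r => by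
    rw [h.xG_add, CharTwo.add_self_eq_zero, h.xG_zero]
  have hxa := mem_uFil_xG h ha (le_refl (P.ht a)) (1 : F)
  have hxb := mem_uFil_xG h hb hht.le (1 : F)
  have htm : t ∈ h.uFil (F := F) (P.ht a) := by
    rw [ht_def]; split_ifs
    · exact hxa
    · exact mul_mem hxa hxb
  have hva : tval h a t = 1 := by
    rw [ht_def]; split_ifs with e
    · rw [tval_xG h ha ha le_rfl, if_pos rfl]
    · rw [tval_mul h ha le_rfl hxa hxb, tval_xG h ha ha le_rfl, if_pos rfl, tval_xG h ha hb hht.le,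
        if_neg (Ne.symm e), add_zero]
  have hvb : tval h b t = 1 := by
    rw [ht_def]; split_ifs with e
    · rw [← e, tval_xG h ha ha le_rfl, if_pos rfl]
    · rw [tval_mul h hb hht.ge hxa hxb, tval_xG h hb ha hht.ge, if_neg e, tval_xG h hb hb le_rfl, if_pos rfl,
        zero_add]
  refine ⟨t, ?_, ?_, ?_, fun e => ?_, fun g hg e => ?_⟩
  · rw [ht_def]; split_ifs
    · exact one_mem' h hT han
    · exact mul_mem (one_mem' h hT han) (one_mem' h hT hbn)
  · rw [ht_def]; split_ifs <;> simp [h.gmap_xG σ han, h.gmap_xG σ hbn]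
  · rw [ht_def]; split_ifs with e
    · exact hsq a
    · rcases hcase with ⟨e', -⟩ | ⟨-, hc⟩
      · exact absurd e' e
      · rw [show h.xG a (1 : F) * h.xG b 1 * (h.xG a 1 * h.xG b 1) =
          h.xG a 1 * (h.xG b 1 * h.xG a 1) * h.xG b 1 by group,
          ← (comQ_commute h 2 hC han hbn (comQ_zero _ hc) (1 : F) 1).eq, ← mul_assoc, hsq, one_mul, hsq]
  · rw [e, tval_one] at hva
    exact zero_ne_one hva
  obtain ⟨v, hv, l, hl, c, hc, e'⟩ := conj_shape h hC hD hα hg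
  rw [e] at e'
  set r := wl P l α
  have hrn : r < P.nroots := h.wl_lt l hl α (P.isPos_iff.1 (alpha_top h hα).1).2
  have ex : h.xG r c = v⁻¹ * t * v⁻¹⁻¹ := by rw [e']; group
  have hm : h.xG r c ∈ h.uFil (F := F) (P.ht a) := by
    rw [ex]
    exact (Subgroup.mem_normalizer_iff.1 (h.pos_normalizes_uFil hC _ (inv_mem hv)) _).1 htm
  have hrp : P.isPos r = true := by
    by_contra hrp
    have : h.xG r c ∈ D.borelSubgroup F ⊓ D.negUnipotent F :=
      Subgroup.mem_inf.2 ⟨Subgroup.mem_sup_left (h.uFil_le_pos _ hm), h.xG_mem_neg hrn (by simpa using hrp) c⟩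
    rw [h.borel_inf_neg, Subgroup.mem_bot] at this
    exact xG_ne_one h hrn hc this
  have hra : tval h a (h.xG r c) = 1 := by
    rw [ex, tval_conj_pos h hC ha (inv_mem hv) htm, hva]
  have hrb : tval h b (h.xG r c) = 1 := by
    rw [ex, tval_conj_pos h hC hb (inv_mem hv) (hht ▸ htm), hvb]
  have hle : P.ht a ≤ P.ht r := by
    by_contra hlt
    have := tval_deep h hrp (by omega : P.ht r < P.ht a) hm
    rw [tval_xG h hrp hrp le_rfl, if_pos rfl] at this
    exact hc this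
  rw [tval_xG h ha hrp hle] at hra
  rw [tval_xG h hb hrp (hht ▸ hle)] at hrb
  have e1 : r = a := by
    by_contra hne; rw [if_neg hne] at hra; exact zero_ne_one hra
  have e2 : r = b := by
    by_contra hne; rw [if_neg hne] at hrb; exact zero_ne_one hrb
  rcases hcase with ⟨-, hS⟩ | ⟨hne, -⟩
  · have := orbit_mem h hα l hl
    rw [show wl P l α = a from e1, hS] at this
    exact Bool.noConfusion this
  · exact hne (e1.symm.trans e2)

/-- The conclusion of the main theorem. -/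
def Between (p a : ℕ) (H : Subgroup (GL D.Idx F)) : Prop :=
  ∃ n, 1 ≤ n ∧ Nat.card {t : F // t ^ (p ^ a) ^ n = t} = (p ^ a) ^ n ∧
    (∀ r < P.nroots, ∀ t : F, t ^ (p ^ a) ^ n = t → h.xG r t ∈ H) ∧
    (∀ g ∈ H, ∀ i j, ((g : Matrix D.Idx D.Idx F) i j) ^ (p ^ a) ^ n = (g : Matrix D.Idx D.Idx F) i j) ∧
    ∃ m : ℕ, Nat.card F = ((p ^ a) ^ n) ^ m

theorem between [Fintype F] (p : ℕ) [Fact p.Prime] [CharP F p] (hC : P.ckComm = true) (hR : P.ckRefl = true)
    (hD : ckDom P = true) (hout : ckOut P = true) {α : ℕ} {S : ℕ → Bool} (hα : ckAlpha P α S = true) {a₀ b₀ : ℕ}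
    (hinv : ckInv P S a₀ b₀ = true)
    (hB : ∀ r, P.isPos r = true → ckB P (qOf p) r = true)
    (hexc : ∀ (σ : F →+* F) (H : Subgroup (GL D.Idx F)), Tight h σ H → ∀ r, P.isPos r = true →
      goodA P (qOf p) (P.ht r) r = false → ∀ u ∈ H, u ∈ h.uFil (F := F) (P.ht r) →
      (∀ v ∈ H, v ∈ h.uFil (F := F) (P.ht r + 1) → gmap D σ v = v) → σ (tval h r u) = tval h r u)
    (hfield : ∀ H : Subgroup (GL D.Idx F), (∀ r < P.nroots, (1 : F) ∈ parA h H r) →
      ∃ R : Set F, (∀ r < P.nroots, parA h H r = R) ∧ ∀ t ∈ R, ∀ u ∈ R, t * u ∈ R)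
    {a : ℕ} (ha : 1 ≤ a) (hq : Nat.card {t : F // t ^ p ^ a = t} = p ^ a) {H : Subgroup (GL D.Idx F)}
    (hHG : H ≤ D.group F) (hroot : ∀ r < P.nroots, ∀ t : F, t ^ p ^ a = t → h.xG r t ∈ H) :
    Between h p a H := by
  classical
  have hone : ∀ r < P.nroots, (1 : F) ∈ parA h H r := fun r hr => hroot r hr 1 (one_pow _)
  obtain ⟨R, hR', hmul⟩ := hfield H hone
  have hαn : α < P.nroots := (P.isPos_iff.1 (alpha_top h hα).1).2
  rw [← hR' α hαn] at hmul
  obtain ⟨n, hn, hcard, hmem, m, hm⟩ := field_set p ha hq (parA h H α) (hone α hαn)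
    (fun t ht u hu => parA_add h ht hu) (fun t ht => parA_neg h ht) hmul fun t ht => hroot α hαn t ht
  set σ := iterateFrobenius F p (a * n)
  have hσ : ∀ t : F, σ t = t ↔ t ∈ parA h H α := fun t => by
    rw [hmem, iterateFrobenius_def, pow_mul p a n]
  have hT : Tight h σ H := ⟨hHG,
    fun r hr t ht => show t ∈ parA h H r by rw [hR' r hr, ← hR' α hαn]; exact (hσ t).1 ht,
    fun r hr t ht => (hσ t).2 (by rw [hR' α hαn, ← hR' r hr]; exact ht)⟩
  have hU : ∀ v ∈ H, v ∈ D.posUnipotent F → gmap D σ v = v := fun v hv hv' =>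
    U_fixed h p hC hT (hexc σ H hT) hv hv'
  have hBf : ∀ v ∈ H, v ∈ D.borelSubgroup F → gmap D σ v = v := fun v hv hv' =>
    B_fixed h p hC hT hU hB hv hv'
  have hPf : ∀ J : Set ℕ, (∃ m, m < P.rank ∧ m ∉ J) → ∀ g ∈ H, g ∈ D.parabolicSubgroup F J → gmap D σ g = g :=
    fun J hJ g hg hgJ => P_fixed h hC hT hout hU hBf J hJ hg hgJ
  refine ⟨n, hn, hcard, fun r hr t ht => hT.rat r hr t ((hσ t).2 ((hmem t).2 ht)), fun g hg i j => ?_,
    m, by rw [Nat.card_eq_fintype_card]; exact hm⟩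
  have h2 : p = 2 → ∃ t ∈ H, gmap D σ t = t ∧ t * t = 1 ∧ t ≠ 1 ∧
      ∀ g ∈ D.group F, g * h.xG α (1 : F) * g⁻¹ ≠ t := fun e => by
    subst e; exact inv_exists h hC hD hT hα hinv
  have := (gmap_fixed_iff h σ g).1 (all_fixed h p hC hR hD hT hα hU hPf h2 hg) i j
  rwa [iterateFrobenius_def, pow_mul p a n] at this

omit h in
theorem qOf_cases (p : ℕ) : qOf p = 0 ∨ qOf p = 2 ∨ qOf p = 3 := by
  unfold qOf; split_ifs <;> simp

omit h in
theorem ub_cases {P : Pk} {p : ℕ} (h0 : ckUB P 0 = true) (h2 : ckUB P 2 = true) (h3 : ckUB P 3 = true) :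
    (∀ r, P.isPos r = true → ckB P (qOf p) r = true) ∧
      ∀ r, P.isPos r = true → ckA P (qOf p) r = true := by
  simp only [ckUB, List.all_eq_true, Bool.and_eq_true, mem_posL] at h0 h2 h3
  rcases qOf_cases p with e | e | e <;> rw [e]
  · exact ⟨fun r hr => (h0 r hr).2, fun r hr => (h0 r hr).1⟩
  · exact ⟨fun r hr => (h2 r hr).2, fun r hr => (h2 r hr).1⟩
  · exact ⟨fun r hr => (h3 r hr).2, fun r hr => (h3 r hr).1⟩

/-- The seven types away from B₂. -/
theorem between_of_data [Fintype F] (p : ℕ) [Fact p.Prime] [CharP F p] (hC : P.ckComm = true)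
    (hR : P.ckRefl = true) (hD : ckDom P = true) (hout : ckOut P = true) {α : ℕ} {S : ℕ → Bool}
    (hα : ckAlpha P α S = true) {a₀ b₀ : ℕ} (hinv : ckInv P S a₀ b₀ = true) {il is' : ℕ}
    (hcls : ckCls P S il is' = true) (h0 : ckUB P 0 = true) (h2 : ckUB P 2 = true) (h3 : ckUB P 3 = true)
    (m0 : ckMul P 0 S = true) (m2 : ckMul P 2 S = true) (m3 : ckMul P 3 S = true)
    {a : ℕ} (ha : 1 ≤ a) (hq : Nat.card {t : F // t ^ p ^ a = t} = p ^ a) {H : Subgroup (GL D.Idx F)}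
    (hHG : H ≤ D.group F) (hroot : ∀ r < P.nroots, ∀ t : F, t ^ p ^ a = t → h.xG r t ∈ H) :
    Between h p a H := by
  obtain ⟨hB, hA⟩ := ub_cases (p := p) h0 h2 h3
  refine between h p hC hR hD hout hα hinv hB ?_ ?_ ha hq hHG hroot
  · intro σ H hT r hr hg u hu hu' ih
    have := hA r hr
    simp only [ckA, hr, hg, Bool.not_true, Bool.false_or] at this
    exact exc_of_ck h p hC hT hr this hu hu' ih
  · intro H hone
    refine one_field h hone p hC hcls ?_
    rcases qOf_cases p with e | e | e <;> rw [e] <;> assumption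

end BGL

end Cfsg.Agent.Chev
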