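/-
Finite overgroups of the groups over subfields, all seven types.
-/
import Cfsg.Agent.Lib.Chev.BGL.Core

set_option autoImplicit false
set_option linter.unusedSectionVars false

namespace Cfsg.Agent.Chev

open Cfsg.Lie

namespace BGL

theorem between_B2 {F : Type*} [Field F] [Fintype F] (p : ℕ) [Fact p.Prime] [CharP F p] {a : ℕ} (ha : 1 ≤ a)
    (hq : Nat.card {t : F // t ^ p ^ a = t} = p ^ a) {H : Subgroup (GL chevB2.Idx F)}
    (hHG : H ≤ chevB2.group F) (hroot : ∀ r < B2.pk.nroots, ∀ t : F, t ^ p ^ a = t → (B2.ok).xG r t ∈ H) :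
    Between B2.ok p a H := by
  have h2 := ub2_B2
  simp only [List.all_eq_true, Bool.and_eq_true, Bool.or_eq_true, mem_posL, nbeq, decide_eq_true_eq] at h2
  have h0 := ub0_B2
  have h3 := ub3_B2
  simp only [ckUB, List.all_eq_true, Bool.and_eq_true, mem_posL] at h0 h3
  refine between B2.ok p ckComm_B2 ckRefl_B2 ckDom_B2 out_B2 alpha_B2 inv_B2 ?_ ?_
    (fun H hone => b2_field p ckComm_B2 hone) ha hq hHG hroot
  · intro r hr
    rcases qOf_cases p with e | e | e <;> rw [e]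
    · exact (h0 r hr).2
    · exact (h2 r hr).1
    · exact (h3 r hr).2
  · intro σ H hT r hr hg u hu hu' ih
    by_cases hA : ckA B2.pk (qOf p) r = true
    · simp only [ckA, hr, hg, Bool.not_true, Bool.false_or] at hA
      exact exc_of_ck B2.ok p ckComm_B2 hT hr hA hu hu' ih
    have hq2 : qOf p = 2 := by
      rcases qOf_cases p with e | e | e
      · exact absurd (e ▸ (h0 r hr).1) hA
      · exact e
      · exact absurd (e ▸ (h3 r hr).1) hA
    have hp2 : p = 2 := by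
      unfold qOf at hq2
      split_ifs at hq2 with e e'
      · exact e
      all_goals omega
    subst hp2
    obtain rfl : r = 6 := (h2 r hr).2.resolve_left (hq2 ▸ hA)
    exact b2_exc ckComm_B2 hT hu hu'

variable {D : ChevalleyDatum}

theorem exists_ok_pos (hD : D ∈ [chevG2, chevB2, chevD4, chevF4, chevE6, chevE7, chevE8]) :
    ∃ P, Ok D P ∧ 0 < P.nroots := by
  simp only [List.mem_cons, List.not_mem_nil, or_false] at hD
  rcases hD with rfl | rfl | rfl | rfl | rfl | rfl | rfl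
  · exact ⟨_, G2.ok, by decide +kernel⟩
  · exact ⟨_, B2.ok, by decide +kernel⟩
  · exact ⟨_, D4.ok, by decide +kernel⟩
  · exact ⟨_, F4.ok, by decide +kernel⟩
  · exact ⟨_, E6.ok, by decide +kernel⟩
  · exact ⟨_, E7.ok, by decide +kernel⟩
  · exact ⟨_, E8.ok, by decide +kernel⟩

/-- A subgroup holding the root elements over the field with `q` elements lies between the groups over one
larger field. -/
theorem main {F : Type*} [Field F] [Fintype F] (hD : D ∈ [chevG2, chevB2, chevD4, chevF4, chevE6, chevE7, chevE8])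
    (p : ℕ) [Fact p.Prime] [CharP F p] {a : ℕ} (ha : 1 ≤ a)
    (hq : Nat.card {t : F // t ^ p ^ a = t} = p ^ a) {H : Subgroup (GL D.Idx F)} (hHG : H ≤ D.group F)
    (hroot : ∀ (g : GL D.Idx F) (r : ℕ) (t : F), t ^ p ^ a = t →
      (g : Matrix D.Idx D.Idx F) = D.x F r t → g ∈ H) :
    ∃ P : Pk, ∃ h : Ok D P, Between h p a H := by
  simp only [List.mem_cons, List.not_mem_nil, or_false] at hD
  rcases hD with rfl | rfl | rfl | rfl | rfl | rfl | rfl
  · exact ⟨_, G2.ok, between_of_data G2.ok p ckComm_G2 ckRefl_G2 ckDom_G2 out_G2 alpha_G2 inv_G2 cls_G2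
      ub0_G2 ub2_G2 ub3_G2 mul0_G2 mul2_G2 mul3_G2 ha hq hHG
      fun r _ t ht => hroot _ r t ht ((G2.ok).coe_xG r t)⟩
  · exact ⟨_, B2.ok, between_B2 p ha hq hHG fun r _ t ht => hroot _ r t ht ((B2.ok).coe_xG r t)⟩
  · exact ⟨_, D4.ok, between_of_data D4.ok p ckComm_D4 ckRefl_D4 ckDom_D4 out_D4 alpha_D4 inv_D4 cls_D4
      ub0_D4 ub2_D4 ub3_D4 mul0_D4 mul2_D4 mul3_D4 ha hq hHG
      fun r _ t ht => hroot _ r t ht ((D4.ok).coe_xG r t)⟩
  · exact ⟨_, F4.ok, between_of_data F4.ok p ckComm_F4 ckRefl_F4 ckDom_F4 out_F4 alpha_F4 inv_F4 cls_F4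
      ub0_F4 ub2_F4 ub3_F4 mul0_F4 mul2_F4 mul3_F4 ha hq hHG
      fun r _ t ht => hroot _ r t ht ((F4.ok).coe_xG r t)⟩
  · exact ⟨_, E6.ok, between_of_data E6.ok p ckComm_E6 ckRefl_E6 ckDom_E6 out_E6 alpha_E6 inv_E6 cls_E6
      ub0_E6 ub2_E6 ub3_E6 mul0_E6 mul2_E6 mul3_E6 ha hq hHG
      fun r _ t ht => hroot _ r t ht ((E6.ok).coe_xG r t)⟩
  · exact ⟨_, E7.ok, between_of_data E7.ok p ckComm_E7 ckRefl_E7 ckDom_E7 out_E7 alpha_E7 inv_E7 cls_E7
      ub0_E7 ub2_E7 ub3_E7 mul0_E7 mul2_E7 mul3_E7 ha hq hHG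
      fun r _ t ht => hroot _ r t ht ((E7.ok).coe_xG r t)⟩
  · exact ⟨_, E8.ok, between_of_data E8.ok p ckComm_E8 ckRefl_E8 ckDom_E8 out_E8 alpha_E8 inv_E8 cls_E8
      ub0_E8 ub2_E8 ub3_E8 mul0_E8 mul2_E8 mul3_E8 ha hq hHG
      fun r _ t ht => hroot _ r t ht ((E8.ok).coe_xG r t)⟩

end BGL

end Cfsg.Agent.Chev
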