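/-
Finite overgroups over an algebraically closed field: specialise the parameters to a finite field.
-/
import Cfsg.Agent.Lib.Chev.BGL.All
import Mathlib.RingTheory.Jacobson.Ring
import Mathlib.RingTheory.Adjoin.FG
import Mathlib.FieldTheory.IsAlgClosed.Basic
import Mathlib.RingTheory.Artinian.Instances
import Mathlib.Algebra.Algebra.ZMod

set_option autoImplicit false
set_option linter.unusedSectionVars false

namespace Cfsg.Agent.Chev

open Cfsg.Lie

namespace BGL

section Roots

variable {k : Type*} [Field k]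

theorem roots_le {Q : ℕ} (hQ : 1 < Q) : {t : k | t ^ Q = t}.Finite ∧ Nat.card {t : k // t ^ Q = t} ≤ Q := by
  classical
  set f : Polynomial k := Polynomial.X ^ Q - Polynomial.X
  have hf : f ≠ 0 := FiniteField.X_pow_card_sub_X_ne_zero k hQ
  have hsub : {t : k | t ^ Q = t} ⊆ ↑f.roots.toFinset := fun t ht => by
    rw [Finset.mem_coe, Multiset.mem_toFinset, Polynomial.mem_roots hf]
    simp [f, Polynomial.IsRoot.def, show t ^ Q = t from ht]
  refine ⟨(Finset.finite_toSet _).subset hsub, ?_⟩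
  refine le_trans (Nat.card_mono (Finset.finite_toSet _) hsub) ?_
  rw [Nat.card_eq_fintype_card]
  simp only [Finset.coe_sort_coe, Fintype.card_coe]
  exact le_trans (Multiset.toFinset_card_le _) (le_trans (Polynomial.card_roots' f)
    (FiniteField.X_pow_card_sub_X_natDegree_eq k hQ).le)

theorem roots_eq [IsAlgClosed k] (p : ℕ) [Fact p.Prime] [CharP k p] {Q a : ℕ} (ha : 1 ≤ a) (hQ : Q = p ^ a) :
    Nat.card {t : k // t ^ Q = t} = Q := by
  classical
  have hQ1 : 1 < Q := hQ ▸ Nat.one_lt_pow (by omega) (Fact.out : p.Prime).one_lt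
  set f : Polynomial k := Polynomial.X ^ Q - Polynomial.X
  have hf : f ≠ 0 := FiniteField.X_pow_card_sub_X_ne_zero k hQ1
  have hsep : f.Separable := by
    rw [Polynomial.separable_def]
    have hd : Polynomial.derivative f = -1 := by
      simp [f, Polynomial.derivative_X_pow, hQ, show (p : k) = 0 from CharP.cast_eq_zero k p, zero_pow (show a ≠ 0 by omega)]
    rw [hd]
    exact ⟨0, -1, by simp⟩
  have hcard : f.roots.card = Q := by
    rw [← (IsAlgClosed.splits f).natDegree_eq_card_roots, FiniteField.X_pow_card_sub_X_natDegree_eq k hQ1]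
  have e : {t : k // t ^ Q = t} ≃ f.roots.toFinset := Equiv.subtypeEquivRight fun t => by
    rw [Multiset.mem_toFinset, Polynomial.mem_roots hf]
    simp [f, Polynomial.IsRoot.def, sub_eq_zero]
  rw [Nat.card_congr e, Nat.card_eq_fintype_card, Fintype.card_coe,
    Multiset.toFinset_card_of_nodup (Polynomial.nodup_roots hsep), hcard]

end Roots

variable {D : ChevalleyDatum} {P : Pk}

/-- Root elements over a ring. -/
def xA (h : Ok D P) {R : Type*} [CommRing R] (r : ℕ) (t : R) : GL D.Idx R :=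
  if hr : r < P.nroots then
    ⟨X D P r t, X D P r (-t), by rw [h.X_add hr, add_neg_cancel, h.X_zero],
      by rw [h.X_add hr, neg_add_cancel, h.X_zero]⟩
  else 1

theorem map_xA (h : Ok D P) {R F : Type*} [CommRing R] [Field F] (f : R →+* F) (r : ℕ) (t : R) :
    Matrix.GeneralLinearGroup.map f (xA h r t) = h.xG r (f t) := by
  by_cases hr : r < P.nroots
  · apply Units.ext
    rw [h.coe_xG' hr, ← X_map f, xA, dif_pos hr]
    rfl
  · rw [xA, dif_neg hr, map_one, Ok.xG, dif_neg hr]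

theorem group_finite_params (h : Ok D P) {k : Type*} [Field k] {g : GL D.Idx k} (hg : g ∈ D.group k) :
    ∃ T : Finset k, g ∈ Subgroup.closure {x | ∃ r, ∃ t ∈ T, x = h.xG r t} := by
  classical
  let S : Subgroup (GL D.Idx k) :=
    { carrier := {g | ∃ T : Finset k, g ∈ Subgroup.closure {x | ∃ r, ∃ t ∈ T, x = h.xG r t}}
      one_mem' := ⟨∅, one_mem _⟩
      mul_mem' := by
        rintro a b ⟨T, ha⟩ ⟨U, hb⟩
        refine ⟨T ∪ U, mul_mem (Subgroup.closure_mono ?_ ha) (Subgroup.closure_mono ?_ hb)⟩ <;>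
          rintro x ⟨r, t, ht, e⟩ <;> exact ⟨r, t, by simp [ht], e⟩
      inv_mem' := by
        rintro a ⟨T, ha⟩
        exact ⟨T, inv_mem ha⟩ }
  exact h.group_le (S := S) (fun r _ t => ⟨{t}, Subgroup.subset_closure ⟨r, t, by simp, rfl⟩⟩) hg

/-- The theorem over an algebraically closed field. -/
theorem over_closed {k : Type*} [Field k] [IsAlgClosed k] (p : ℕ) [Fact p.Prime] [CharP k p]
    (hD : D ∈ [chevG2, chevB2, chevD4, chevF4, chevE6, chevE7, chevE8]) {a : ℕ} (ha : 1 ≤ a)
    (M : Subgroup (GL D.Idx k)) [hMfin : Finite ↥M] (hMG : M ≤ D.group k)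
    (hLM : ∀ (g : GL D.Idx k) (s : ℕ) (t : k), t ^ p ^ a = t →
      (g : Matrix D.Idx D.Idx k) = D.x k s t → g ∈ M) :
    ∃ n : ℕ, 1 ≤ n ∧
      (∀ (g : GL D.Idx k) (s : ℕ) (t : k), t ^ (p ^ a) ^ n = t →
        (g : Matrix D.Idx D.Idx k) = D.x k s t → g ∈ M) ∧
      ∀ g ∈ M, ∀ i j, ((g : Matrix D.Idx D.Idx k) i j) ^ (p ^ a) ^ n = (g : Matrix D.Idx D.Idx k) i j := by
  classical
  obtain ⟨P, h, hpos⟩ := exists_ok_pos hD
  set q := p ^ a with hq_def
  have hp := (Fact.out : p.Prime)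
  have hq1 : 1 < q := Nat.one_lt_pow (by omega) hp.one_lt
  let _ : Algebra (ZMod p) k := ZMod.algebra k p
  have hT : ∀ g : M, ∃ T : Finset k, g.1 ∈ Subgroup.closure {x | ∃ r, ∃ t ∈ T, x = h.xG r t} := fun g =>
    group_finite_params h (hMG g.2)
  choose T hT using hT
  let _ : Fintype M := Fintype.ofFinite M
  let T0 : Finset k := (Finset.univ.biUnion T) ∪ (roots_le (k := k) hq1).1.toFinset
  set A : Subalgebra (ZMod p) k := Algebra.adjoin (ZMod p) (T0 : Set k) with hA_def
  have hFT : Algebra.FiniteType (ZMod p) A := (Subalgebra.fg_iff_finiteType A).1 ⟨T0, rfl⟩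
  have hJ : IsJacobsonRing A := isJacobsonRing_of_finiteType (A := ZMod p)
  let ι : GL D.Idx A →* GL D.Idx k := Matrix.GeneralLinearGroup.map A.val.toRingHom
  have hιinj : Function.Injective ι := fun x y e => Units.ext <| Matrix.map_injective Subtype.val_injective
    (congrArg Units.val e)
  set GA : Subgroup (GL D.Idx A) := Subgroup.closure {x | ∃ r t, x = xA h r t}
  have hlift : ∀ g ∈ M, ∃ x ∈ GA, ι x = g := by
    intro g hg
    have h1 : g ∈ GA.map ι := by
      refine (Subgroup.closure_le _).2 ?_ (hT ⟨g, hg⟩)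
      rintro x ⟨r, t, ht, rfl⟩
      have htA : t ∈ A := Algebra.subset_adjoin
        (Finset.mem_coe.2 (Finset.mem_union_left _ (Finset.mem_biUnion.2 ⟨⟨g, hg⟩, Finset.mem_univ _, ht⟩)))
      exact ⟨xA h r ⟨t, htA⟩, Subgroup.subset_closure ⟨r, _, rfl⟩, map_xA h _ r _⟩
    exact h1
  set MA : Subgroup (GL D.Idx A) := M.comap ι ⊓ GA
  have hMAfin : Finite MA := Finite.of_injective (fun x : MA => (⟨ι x.1, x.2.1⟩ : M))
    fun x y e => Subtype.ext (hιinj (congrArg Subtype.val e))
  have hMAle : Nat.card MA ≤ Nat.card M := Nat.card_le_card_of_injective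
    (fun x : MA => (⟨ι x.1, x.2.1⟩ : M)) fun x y e => Subtype.ext (hιinj (congrArg Subtype.val e))
  -- a specialisation
  have spec : ∀ m : Ideal A, m.IsMaximal → ∃ n, 1 ≤ n ∧ n ≤ Nat.card M ∧
      (∀ x ∈ MA, ∀ i j, ((x : Matrix D.Idx D.Idx A) i j) ^ q ^ n - (x : Matrix D.Idx D.Idx A) i j ∈ m) ∧
      ∃ Rt : Finset (A ⧸ m), Rt.card = q ^ n ∧ ∀ u ∈ Rt, u ^ q ^ n = u ∧ ∀ r < P.nroots, ∃ x ∈ MA,
        Matrix.GeneralLinearGroup.map (Ideal.Quotient.mk m) x = xA h r u := by
    intro m hm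
    let _ : Field (A ⧸ m) := Ideal.Quotient.field m
    have : Module.Finite (ZMod p) (A ⧸ m) := finite_of_finite_type_of_isJacobsonRing (ZMod p) (A ⧸ m)
    have : Finite (A ⧸ m) := Module.finite_of_finite (ZMod p)
    let _ : Fintype (A ⧸ m) := Fintype.ofFinite _
    have : CharP (A ⧸ m) p := charP_of_injective_algebraMap (algebraMap (ZMod p) (A ⧸ m)).injective p
    let φ : GL D.Idx A →* GL D.Idx (A ⧸ m) := Matrix.GeneralLinearGroup.map (Ideal.Quotient.mk m)
    set H := MA.map φ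
    have hHG : H ≤ D.group (A ⧸ m) := by
      refine le_trans (Subgroup.map_mono inf_le_right) ?_
      rw [MonoidHom.map_closure, Subgroup.closure_le]
      rintro _ ⟨x, ⟨r, t, rfl⟩, rfl⟩
      rw [show φ (xA h r t) = h.xG r (Ideal.Quotient.mk m t) from map_xA h _ r t]
      exact h.mem_group_of_xG r _
    have hA0 : ∀ t : {t : k // t ^ q = t}, t.1 ∈ A := fun t => Algebra.subset_adjoin
      (Finset.mem_coe.2 (Finset.mem_union_right _ ((roots_le (k := k) hq1).1.mem_toFinset.2 t.2)))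
    let π : {t : k // t ^ q = t} → {u : A ⧸ m // u ^ q = u} := fun t =>
      ⟨Ideal.Quotient.mk m ⟨t.1, hA0 t⟩, by rw [← map_pow]; congr 1; exact Subtype.ext t.2⟩
    have hπ : Function.Injective π := by
      intro t t' e
      by_contra hne
      have hmem := Ideal.Quotient.eq.1 (congrArg Subtype.val e)
      have hd : t.1 - t'.1 ≠ 0 := fun e => hne (Subtype.ext (sub_eq_zero.1 e))
      have hfix : (t.1 - t'.1) ^ q = t.1 - t'.1 :=
        (sub_pow_char_pow t.1 t'.1 a : (t.1 - t'.1) ^ p ^ a = _).trans (congrArg₂ (· - ·) t.2 t'.2)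
      have h1 : (t.1 - t'.1) ^ (q - 1) = 1 := by
        have e' := pow_succ (t.1 - t'.1) (q - 1)
        rw [Nat.sub_add_cancel hq1.le, hfix] at e'
        exact (mul_eq_right₀ hd).1 e'.symm
      have h2 : ((⟨t.1, hA0 t⟩ - ⟨t'.1, hA0 t'⟩ : A)) ^ (q - 1) = 1 := Subtype.ext h1
      have h3 := Ideal.pow_mem_of_mem m hmem (q - 1) (by omega)
      rw [h2] at h3
      exact hm.ne_top ((Ideal.eq_top_iff_one m).2 h3)
    have hq : Nat.card {u : A ⧸ m // u ^ q = u} = q := by
      refine le_antisymm (card_fix_le hq1) ?_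
      have := Nat.card_le_card_of_injective π hπ
      rwa [roots_eq p ha hq_def] at this
    have hπs : Function.Surjective π := (hπ.bijective_of_nat_card_le (by rw [hq, roots_eq p ha hq_def])).2
    obtain ⟨P', h', n, hn, hcard, hroots, hent, -⟩ := main hD p ha hq hHG (fun g r u hu hg => by
      obtain ⟨t, ht⟩ := hπs ⟨u, hu⟩
      have hgA : xA h r (⟨t.1, hA0 t⟩ : A) ∈ MA := by
        refine ⟨?_, Subgroup.subset_closure ⟨r, _, rfl⟩⟩
        show ι _ ∈ M
        rw [show ι (xA h r (⟨t.1, hA0 t⟩ : A)) = h.xG r t.1 from map_xA h _ r _]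
        exact hLM _ r t.1 t.2 (h.coe_xG r t.1)
      refine ⟨_, hgA, ?_⟩
      rw [show φ (xA h r (⟨t.1, hA0 t⟩ : A)) = h.xG r _ from map_xA h _ r _,
        show Ideal.Quotient.mk m ⟨t.1, hA0 t⟩ = u from congrArg Subtype.val ht]
      exact (h.eq_xG_iff.1 hg).symm)
    have hnn : P'.nroots = P.nroots := h'.nroots.symm.trans h.nroots
    have hxeq : ∀ (r : ℕ) (u : A ⧸ m), h'.xG r u = h.xG r u := fun r u => h.eq_xG_iff.1 (h'.coe_xG r u)
    refine ⟨n, hn, ?_, fun x hx i j => ?_, (Finset.univ.filter fun u : A ⧸ m => u ^ q ^ n = u), ?_, fun u hu => ?_⟩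
    · have hfun : ∀ u : {u : A ⧸ m // u ^ q ^ n = u}, h.xG 0 u.1 ∈ H := fun u => by
        rw [← hxeq]; exact hroots 0 (hnn ▸ hpos) u.1 u.2
      have hinj : Function.Injective (fun u : {u : A ⧸ m // u ^ q ^ n = u} => (⟨_, hfun u⟩ : H)) :=
        fun u v e => Subtype.ext (h.xG_inj_param hpos (congrArg Subtype.val e))
      have : Finite H := Finite.of_surjective (φ.subgroupMap MA) (φ.subgroupMap_surjective MA)
      have e1 := Nat.card_le_card_of_injective _ hinj
      have e2 : Nat.card H ≤ Nat.card MA :=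
        Nat.card_le_card_of_surjective (φ.subgroupMap MA) (φ.subgroupMap_surjective MA)
      rw [hcard] at e1
      exact le_trans (Nat.lt_pow_self hq1).le (le_trans e1 (le_trans e2 hMAle))
    · rw [← Ideal.Quotient.eq, map_pow]
      exact hent (φ x) ⟨x, hx, rfl⟩ i j
    · exact (Fintype.card_subtype _).symm.trans (Nat.card_eq_fintype_card.symm.trans hcard)
    · have hu' := (Finset.mem_filter.1 hu).2
      refine ⟨hu', fun r hr => ?_⟩
      obtain ⟨x, hx, e⟩ := hroots r (hnn ▸ hr) u hu'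
      refine ⟨x, hx, ?_⟩
      rw [show Matrix.GeneralLinearGroup.map (Ideal.Quotient.mk m) x = φ x from rfl, e, hxeq]
      apply Units.ext
      rw [h.coe_xG' hr, xA, dif_pos hr]
  -- the entries are algebraic
  set QQ := q ^ (Nat.card M).factorial with hQQ
  have fixA : ∀ x ∈ MA, ∀ i j, ((x : Matrix D.Idx D.Idx A) i j) ^ QQ = (x : Matrix D.Idx D.Idx A) i j := by
    intro x hx i j
    set c := (x : Matrix D.Idx D.Idx A) i j
    have hjac : c ^ QQ - c ∈ Ideal.jacobson (⊥ : Ideal A) := by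
      rw [Ideal.jacobson, Ideal.mem_sInf]
      rintro m ⟨-, hm⟩
      obtain ⟨n, hn, hnM, hfix, -⟩ := spec m hm
      obtain ⟨d, hd⟩ : n ∣ (Nat.card M).factorial := Nat.dvd_factorial hn hnM
      rw [← Ideal.Quotient.eq, map_pow, hQQ, hd, pow_mul]
      set u := Ideal.Quotient.mk m c
      have e : u ^ q ^ n = u := by
        have := hfix x hx i j
        rwa [← Ideal.Quotient.eq, map_pow] at this
      clear_value u
      clear hd
      induction d with
      | zero => rw [pow_zero, pow_one]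
      | succ d ih => rw [pow_succ, pow_mul, ih, e]
    rw [← Ideal.radical_eq_jacobson] at hjac
    rw [Ideal.radical, Submodule.mem_mk] at hjac
    obtain ⟨N, hN⟩ := hjac
    exact sub_eq_zero.1 (eq_zero_of_pow_eq_zero ((Ideal.mem_bot).1 hN))
  obtain ⟨m, hm⟩ := Ideal.exists_maximal A
  obtain ⟨n, hn, -, hfix, Rt, hRt, hR⟩ := spec m hm
  let _ : Field (A ⧸ m) := Ideal.Quotient.field m
  set Q := q ^ n with hQ_def
  have hQQ1 : 1 < QQ := Nat.one_lt_pow (Nat.factorial_ne_zero _) hq1
  have sep : ∀ c d : A, c ^ QQ = c → d ^ QQ = d → c - d ∈ m → c = d := by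
    intro c d hc hd hcd
    by_contra hne
    have hk : (c.1 - d.1) ^ QQ = c.1 - d.1 := by
      have hc' : c.1 ^ QQ = c.1 := congrArg Subtype.val hc
      have hd' : d.1 ^ QQ = d.1 := congrArg Subtype.val hd
      rw [hQQ, hq_def, ← pow_mul, sub_pow_char_pow, pow_mul, ← hq_def, ← hQQ, hc', hd']
    have hd0 : c.1 - d.1 ≠ 0 := fun e => hne (Subtype.ext (sub_eq_zero.1 e))
    have h1 : (c.1 - d.1) ^ (QQ - 1) = 1 := by
      have e' := pow_succ (c.1 - d.1) (QQ - 1)
      rw [Nat.sub_add_cancel hQQ1.le, hk] at e'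
      exact (mul_eq_right₀ hd0).1 e'.symm
    have h2 : (c - d) ^ (QQ - 1) = 1 := Subtype.ext h1
    have h3 := Ideal.pow_mem_of_mem m hcd (QQ - 1) (by omega)
    rw [h2] at h3
    exact hm.ne_top ((Ideal.eq_top_iff_one m).2 h3)
  have hentQ : ∀ x ∈ MA, ∀ i j, ((x : Matrix D.Idx D.Idx A) i j) ^ Q = (x : Matrix D.Idx D.Idx A) i j := by
    intro x hx i j
    refine sep _ _ ?_ (fixA x hx i j) (hfix x hx i j)
    rw [← pow_mul, mul_comm, pow_mul, fixA x hx i j]
  refine ⟨n, hn, fun g r t ht hg => ?_, fun g hg i j => ?_⟩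
  swap
  · obtain ⟨x, hx, rfl⟩ := hlift g hg
    exact congrArg Subtype.val (hentQ x ⟨hg, hx⟩ i j)
  rw [h.eq_xG_iff.1 hg]
  by_cases hr : r < P.nroots
  swap
  · rw [Ok.xG, dif_neg hr]; exact one_mem _
  -- lift the root elements
  obtain ⟨i, hi, hco⟩ := h.co_cast_ne (F := k) hr
  set cinv : A := algebraMap (ZMod p) A ((P.co r i : ZMod p))⁻¹
  have hco' : ((P.co r i : ZMod p)) ≠ 0 := fun e => hco (by
    have := congrArg (algebraMap (ZMod p) k) e
    rwa [map_intCast, map_zero] at this)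
  have hc1 : cinv * (P.co r i : A) = 1 := by
    rw [← map_intCast (algebraMap (ZMod p) A), ← map_mul, inv_mul_cancel₀ hco', map_one]
  have hcfix : cinv ^ Q = cinv := by
    rw [← map_pow]
    congr 1
    rw [hQ_def, hq_def, ← pow_mul, ZMod.pow_card_pow]
  have hsurj : ∀ u ∈ Rt, ∃ s : A, s ^ Q = s ∧ Ideal.Quotient.mk m s = u ∧ h.xG r s.1 ∈ M := by
    intro u hu
    obtain ⟨hu', hur⟩ := hR u hu
    obtain ⟨x, hx, e⟩ := hur r hr
    set s : A := cinv * (x : Matrix D.Idx D.Idx A) (h.hIdx i hi) (h.rootIdx (P.ng r) (Ok.ng_lt hr))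
    have hs : s ^ Q = s := by rw [mul_pow, hcfix, hentQ x hx]
    have hsu : Ideal.Quotient.mk m s = u := by
      have e1 := congrArg (fun g : GL D.Idx (A ⧸ m) =>
        (g : Matrix D.Idx D.Idx (A ⧸ m)) (h.hIdx i hi) (h.rootIdx (P.ng r) (Ok.ng_lt hr))) e
      simp only [xA, dif_pos hr] at e1
      rw [map_mul]
      refine Eq.trans (congrArg _ e1) ?_
      rw [h.X_coroot hr, ← mul_assoc, mul_comm (Ideal.Quotient.mk m cinv) u, mul_assoc, ← map_intCast (Ideal.Quotient.mk m),
        ← map_mul, hc1, map_one, mul_one]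
    refine ⟨s, hs, hsu, ?_⟩
    have hxe : x = xA h r s := by
      apply Units.ext
      refine Matrix.ext fun i' j' => ?_
      have hsQQ : s ^ QQ = s := by
        have hf := fixA x hx (h.hIdx i hi) (h.rootIdx (P.ng r) (Ok.ng_lt hr))
        have hc' : cinv ^ QQ = cinv := by
          rw [← map_pow]
          congr 1
          rw [hQQ, hq_def, ← pow_mul, ZMod.pow_card_pow]
        rw [mul_pow, hc', hf]
      refine sep _ _ (fixA x hx i' j') ?_ ?_
      · have hX : ((xA h r s : GL D.Idx A) : Matrix D.Idx D.Idx A) i' j' = X D P r s i' j' := by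
          rw [xA, dif_pos hr]
        rw [hX]
        apply Subtype.ext
        show ((X D P r s i' j').1) ^ QQ = (X D P r s i' j').1
        have e2 := congrFun (congrFun (X_map (D := D) (P := P) A.val.toRingHom r s) i') j'
        rw [Matrix.map_apply] at e2
        have e2' : (X D P r s i' j').1 = X D P r s.1 i' j' := e2
        rw [e2', hQQ, hq_def, ← pow_mul, ← iterateFrobenius_def]
        have e3 := congrFun (congrFun (X_map (D := D) (P := P)
          (iterateFrobenius k p (a * (Nat.card M).factorial)) r s.1) i') j'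
        rw [Matrix.map_apply] at e3
        rw [e3, iterateFrobenius_def, pow_mul, ← hq_def, ← hQQ,
          show s.1 ^ QQ = s.1 from congrArg Subtype.val hsQQ]
      · rw [← Ideal.Quotient.eq]
        have e1 := congrArg (fun g : GL D.Idx (A ⧸ m) => (g : Matrix D.Idx D.Idx (A ⧸ m)) i' j') e
        simp only [xA, dif_pos hr] at e1 ⊢
        refine Eq.trans e1 ?_
        rw [← hsu]
        exact (congrFun (congrFun (X_map (D := D) (P := P) (Ideal.Quotient.mk m) r s) i') j').symm
    have : ι x ∈ M := hx.1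
    rw [hxe, show ι (xA h r s) = h.xG r (A.val.toRingHom s) from map_xA h _ r s] at this
    exact this
  choose s hs1 hs2 hs3 using hsurj
  let f : Rt → {t : k // t ^ Q = t} := fun u => ⟨(s u.1 u.2).1, congrArg Subtype.val (hs1 u.1 u.2)⟩
  have hf : Function.Injective f := fun u v e => Subtype.ext <| by
    rw [← hs2 u.1 u.2, ← hs2 v.1 v.2, show s u.1 u.2 = s v.1 v.2 from Subtype.ext (congrArg (fun z => z.1) e)]
  have hQ1 : 1 < Q := Nat.one_lt_pow (by omega) hq1
  have : Finite {t : k // t ^ Q = t} := (roots_le (k := k) hQ1).1.to_subtype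
  have hb := hf.bijective_of_nat_card_le (by
    rw [Nat.card_eq_fintype_card (α := Rt), Fintype.card_coe, hRt]; exact (roots_le (k := k) hQ1).2)
  obtain ⟨u, hu⟩ := hb.2 ⟨t, ht⟩
  rw [← show (s u.1 u.2).1 = t from congrArg (fun z => z.1) hu]
  exact hs3 u.1 u.2

end BGL

end Cfsg.Agent.Chev
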